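import Cfsg.Agent.Recog71.ThreePrimes
import Cfsg.Agent.Lib.Coprime.Generation
import Cfsg.Agent.Lib.Solvable.HallPi

/-!
# Averaging arguments for coprime actions (used for S3814)
-/

set_option autoImplicit false

namespace Cfsg.Agent.FGS77.FourPrimes

open Subgroup

section Action

variable {F V : Type*} [Group F] [CommGroup V] [MulDistribMulAction F V]

/-- If `x` has no fixed points on `V`, then `|U|`-th powers are fixed by `U`, as soon as
the twisted `U`-averages belonging to the proper powers of `x` are fixed by `U`. -/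
theorem smul_pow_card_eq (U : Subgroup F) [Fintype U] (x : F) {r : ℕ} (hr : 0 < r) (hxr : x ^ r = 1)
    (hxV : ∀ v : V, x • v = v → v = 1) {g : F}
    (hi : ∀ i, 0 < i → i < r → ∀ w : V,
      g • (∏ u : U, ((u : F) * x ^ i * (u : F)⁻¹ * (x ^ i)⁻¹) • w) =
        ∏ u : U, ((u : F) * x ^ i * (u : F)⁻¹ * (x ^ i)⁻¹) • w)
    (v : V) : g • (v ^ Fintype.card U) = v ^ Fintype.card U := by
  classical
  have horbit : ∀ u : U, ∏ i ∈ Finset.range r, ((u : F) * x ^ i * (u : F)⁻¹) • v = 1 := by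
    intro u
    have hfix : ∏ i ∈ Finset.range r, x ^ i • ((u : F)⁻¹ • v) = 1 := by
      refine hxV _ ?_
      rw [Finset.smul_prod']
      simp_rw [← mul_smul x, ← pow_succ']
      have h1 := Finset.prod_range_succ' (fun i => x ^ i • ((u : F)⁻¹ • v)) r
      have h2 := Finset.prod_range_succ (fun i => x ^ i • ((u : F)⁻¹ • v)) r
      rw [h2, hxr, pow_zero] at h1
      exact (mul_right_cancel h1).symm
    calc ∏ i ∈ Finset.range r, ((u : F) * x ^ i * (u : F)⁻¹) • v
        = (u : F) • ∏ i ∈ Finset.range r, x ^ i • ((u : F)⁻¹ • v) := by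
          rw [Finset.smul_prod']
          simp_rw [mul_smul]
      _ = 1 := by rw [hfix, smul_one]
  have htot : ∏ i ∈ Finset.range r, ∏ u : U, ((u : F) * x ^ i * (u : F)⁻¹) • v = 1 := by
    rw [Finset.prod_comm]
    simp [horbit]
  rw [← Finset.prod_erase_mul _ _ (Finset.mem_range.mpr hr)] at htot
  have h0 : ∏ u : U, ((u : F) * x ^ 0 * (u : F)⁻¹) • v = v ^ Fintype.card U := by simp
  rw [h0] at htot
  have hA : g • (∏ i ∈ (Finset.range r).erase 0, ∏ u : U, ((u : F) * x ^ i * (u : F)⁻¹) • v) =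
      ∏ i ∈ (Finset.range r).erase 0, ∏ u : U, ((u : F) * x ^ i * (u : F)⁻¹) • v := by
    rw [Finset.smul_prod']
    refine Finset.prod_congr rfl fun i hmem => ?_
    rw [Finset.mem_erase, Finset.mem_range] at hmem
    have e : ∏ u : U, ((u : F) * x ^ i * (u : F)⁻¹) • v =
        ∏ u : U, ((u : F) * x ^ i * (u : F)⁻¹ * (x ^ i)⁻¹) • (x ^ i • v) := by
      refine Finset.prod_congr rfl fun u _ => ?_
      rw [← mul_smul, inv_mul_cancel_right]
    rw [e]
    exact hi i (Nat.pos_of_ne_zero hmem.1) hmem.2 _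
  rw [eq_inv_of_mul_eq_one_right htot, smul_inv', hA]

/-- A fixed-point-free automorphism of a subgroup `U` which is fixed-point-free on `V` forces
`U` to fix all `|U|`-th powers. -/
theorem smul_pow_card_of_fpf (U : Subgroup F) [Fintype U] (x : F) {r : ℕ} (hr : 0 < r)
    (hxr : x ^ r = 1) (hxn : x ∈ normalizer (U : Set F))
    (hxU : ∀ i, 0 < i → i < r → ∀ u ∈ U, x ^ i * u = u * x ^ i → u = 1)
    (hxV : ∀ v : V, x • v = v → v = 1) (v : V) :
    ∀ g ∈ U, g • (v ^ Fintype.card U) = v ^ Fintype.card U := by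
  classical
  intro g hg
  refine smul_pow_card_eq U x hr hxr hxV (fun i hi hir w => ?_) v
  have hn : ∀ u ∈ U, x ^ i * u * (x ^ i)⁻¹ ∈ U := fun u hu =>
    (mem_normalizer_iff.mp (pow_mem hxn i) u).mp hu
  let ψ : U → U := fun u => ⟨(u : F) * (x ^ i * (u : F)⁻¹ * (x ^ i)⁻¹),
    U.mul_mem u.2 (hn _ (U.inv_mem u.2))⟩
  have hψ : Function.Bijective ψ := by
    refine Finite.injective_iff_bijective.mp fun a b hab => ?_
    have h0 : (a : F) * (x ^ i * (a : F)⁻¹ * (x ^ i)⁻¹) =
        (b : F) * (x ^ i * (b : F)⁻¹ * (x ^ i)⁻¹) := congrArg Subtype.val hab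
    have h1 : (b : F)⁻¹ * a = 1 := by
      refine hxU i hi hir _ (U.mul_mem (U.inv_mem b.2) a.2) ?_
      calc x ^ i * ((b : F)⁻¹ * a)
          = (b : F)⁻¹ * ((b : F) * (x ^ i * (b : F)⁻¹ * (x ^ i)⁻¹)) * (x ^ i * (a : F)) := by group
        _ = (b : F)⁻¹ * ((a : F) * (x ^ i * (a : F)⁻¹ * (x ^ i)⁻¹)) * (x ^ i * (a : F)) := by
          rw [h0]
        _ = (b : F)⁻¹ * a * x ^ i := by group
    exact (Subtype.ext (inv_mul_eq_one.mp h1)).symm
  have key : ∏ u : U, ((u : F) * x ^ i * (u : F)⁻¹ * (x ^ i)⁻¹) • w = ∏ z : U, (z : F) • w := by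
    refine Fintype.prod_bijective ψ hψ _ _ fun u => ?_
    show _ = ((u : F) * (x ^ i * (u : F)⁻¹ * (x ^ i)⁻¹)) • w
    simp only [mul_assoc]
  rw [key, Finset.smul_prod']
  simp_rw [← mul_smul]
  exact Equiv.prod_comp (Equiv.mulLeft (⟨g, hg⟩ : U)) fun z : U => (z : F) • w

/-- If all elements `b`, `a * b ^ i` of an elementary abelian group of rank two act without
fixed points, then `V` has exponent `t`. -/
theorem pow_eq_one_of_cover {a b : F} {t : ℕ} (ht : t.Prime) (hab : Commute a b) (ha : a ^ t = 1)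
    (hb : b ^ t = 1) (hfb : ∀ v : V, b • v = v → v = 1)
    (hfab : ∀ i, i < t → ∀ v : V, (a * b ^ i) • v = v → v = 1) (v : V) : v ^ t = 1 := by
  classical
  have hfix : ∀ (c : F), c ^ t = 1 → (∀ w : V, c • w = w → w = 1) → ∀ w : V,
      ∏ j ∈ Finset.range t, c ^ j • w = 1 := by
    intro c hc hf w
    refine hf _ ?_
    rw [Finset.smul_prod']
    simp_rw [← mul_smul c, ← pow_succ']
    have h1 := Finset.prod_range_succ' (fun i => c ^ i • w) t
    have h2 := Finset.prod_range_succ (fun i => c ^ i • w) t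
    rw [h2, hc, pow_zero] at h1
    exact (mul_right_cancel h1).symm
  have hrow : ∀ i ∈ Finset.range t, ∏ j ∈ Finset.range t, (a * b ^ i) ^ j • v = 1 := by
    intro i hi
    refine hfix _ ?_ (hfab i (Finset.mem_range.mp hi)) v
    rw [(hab.pow_right i).mul_pow, ha, one_mul, ← pow_mul, mul_comm, pow_mul, hb, one_pow]
  have htot : ∏ i ∈ Finset.range t, ∏ j ∈ Finset.range t, (a * b ^ i) ^ j • v = 1 :=
    Finset.prod_eq_one hrow
  rw [Finset.prod_comm, ← Finset.prod_erase_mul _ _ (Finset.mem_range.mpr ht.pos)] at htot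
  have hz : ∏ j ∈ (Finset.range t).erase 0, ∏ i ∈ Finset.range t, (a * b ^ i) ^ j • v = 1 := by
    refine Finset.prod_eq_one fun j hj => ?_
    rw [Finset.mem_erase, Finset.mem_range] at hj
    have e : ∏ i ∈ Finset.range t, (a * b ^ i) ^ j • v =
        a ^ j • ∏ i ∈ Finset.range t, (b ^ j) ^ i • v := by
      rw [Finset.smul_prod']
      refine Finset.prod_congr rfl fun i _ => ?_
      rw [(hab.pow_right i).mul_pow, mul_smul, ← pow_mul, ← pow_mul, mul_comm i j]
    rw [e, hfix (b ^ j) (by rw [← pow_mul, mul_comm, pow_mul, hb, one_pow]) ?_ v, smul_one]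
    intro w hw
    refine hfb w ?_
    have hj' : j.Coprime t :=
      (Nat.Coprime.symm (ht.coprime_iff_not_dvd.mpr fun h => hj.1
        (Nat.eq_zero_of_dvd_of_lt h hj.2)))
    obtain ⟨k, hk⟩ := exists_pow_eq_self_of_coprime (n := j) (x := b)
      (Nat.Coprime.coprime_dvd_right (orderOf_dvd_of_pow_eq_one hb) hj')
    have : ∀ k : ℕ, (b ^ j) ^ k • w = w := by
      intro k
      induction k with
      | zero => rw [pow_zero, one_smul]
      | succ k ih => rw [pow_succ, mul_smul, hw, ih]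
    rw [← hk]
    exact this k
  rw [hz, one_mul] at htot
  simpa using htot

end Action

variable {G : Type*} [Group G]

/-- An element has a nontrivial fixed point in the subgroup `V` under conjugation. -/
def Fixes (g : G) (V : Subgroup G) : Prop := ∃ v ∈ V, v ≠ 1 ∧ Commute g v

theorem eq_one_of_not_fixes {g : G} {V : Subgroup G} (h : ¬ Fixes g V) {v : G} (hv : v ∈ V)
    (hc : Commute g v) : v = 1 := by
  by_contra h1
  exact h ⟨v, hv, h1, hc⟩

/-- A commutative subgroup as a commutative group. -/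
@[reducible] def commGroupOf (V : Subgroup G) (hV : ∀ a ∈ V, ∀ b ∈ V, Commute a b) : CommGroup V :=
  { (inferInstance : Group V) with mul_comm := fun a b => Subtype.ext (hV a a.2 b b.2) }

/-- Conjugation action of the normalizer on a commutative subgroup. -/
@[reducible] def conjAction (V : Subgroup G) (hV : ∀ a ∈ V, ∀ b ∈ V, Commute a b) :
    letI := commGroupOf V hV
    MulDistribMulAction ↥(normalizer (V : Set G)) V :=
  letI := commGroupOf V hV
  { smul := fun g v => ⟨(g : G) * v * (g : G)⁻¹, (mem_normalizer_iff.mp g.2 _).mp v.2⟩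
    one_smul := fun v => Subtype.ext
      (show ((1 : ↥(normalizer (V : Set G))) : G) * v * ((1 : ↥(normalizer (V : Set G))) : G)⁻¹ = v by
        simp)
    mul_smul := fun g h v => Subtype.ext
      (show ((g * h : ↥(normalizer (V : Set G))) : G) * v * ((g * h : ↥(normalizer (V : Set G))) : G)⁻¹ =
        (g : G) * ((h : G) * v * (h : G)⁻¹) * (g : G)⁻¹ by simp [mul_assoc])
    smul_mul := fun g a b => Subtype.ext
      (show (g : G) * ((a * b : V) : G) * (g : G)⁻¹ =
        ((g : G) * a * (g : G)⁻¹) * ((g : G) * b * (g : G)⁻¹) by simp [mul_assoc])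
    smul_one := fun g => Subtype.ext
      (show (g : G) * ((1 : V) : G) * (g : G)⁻¹ = 1 by simp) }

variable [Finite G]

theorem eq_one_of_pow_eq_one_of_coprime {H : Subgroup G} {g : G} (hg : g ∈ H) {n : ℕ}
    (hn : g ^ n = 1) (hco : n.Coprime (Nat.card H)) : g = 1 := by
  have h1 : orderOf g ∣ Nat.card H := by
    have := orderOf_dvd_natCard (⟨g, hg⟩ : H)
    rwa [← Subgroup.orderOf_coe] at this
  exact orderOf_eq_one_iff.mp (Nat.eq_one_of_dvd_coprimes hco (orderOf_dvd_of_pow_eq_one hn) h1)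

/-- In a finite group one inclusion suffices for normalizing. -/
theorem mem_normalizer_of_conj_mem {H : Subgroup G} {x : G} (h : ∀ a ∈ H, x * a * x⁻¹ ∈ H) :
    x ∈ normalizer (H : Set G) := by
  have hinj : Function.Injective fun a : H => (⟨x * a * x⁻¹, h a a.2⟩ : H) := fun a b hab =>
    Subtype.ext (mul_left_cancel (mul_right_cancel (congrArg Subtype.val hab)))
  rw [mem_normalizer_iff]
  refine fun a => ⟨h a, fun ha => ?_⟩
  obtain ⟨b, hb⟩ := (Finite.injective_iff_surjective.mp hinj) ⟨_, ha⟩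
  have : (b : G) = a := mul_left_cancel (mul_right_cancel (congrArg Subtype.val hb))
  exact this ▸ b.2

/-- If `x` is fixed-point-free on `U` and on the abelian group `V`, then `U` centralizes `V`. -/
theorem commute_of_fpf (V U : Subgroup G) (hV : ∀ a ∈ V, ∀ b ∈ V, Commute a b)
    (hUV : U ≤ normalizer (V : Set G)) {x : G} (hxV : x ∈ normalizer (V : Set G))
    (hxU : x ∈ normalizer (U : Set G)) {r : ℕ} (hr : 0 < r) (hxr : x ^ r = 1)
    (hfU : ∀ i, 0 < i → i < r → ∀ u ∈ U, Commute (x ^ i) u → u = 1)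
    (hco : (Nat.card U).Coprime (Nat.card V)) (hfV : ¬ Fixes x V) :
    ∀ u ∈ U, ∀ v ∈ V, Commute u v := by
  classical
  letI := commGroupOf V hV
  letI := conjAction V hV
  intro u hu v hv
  let U' : Subgroup ↥(normalizer (V : Set G)) := U.subgroupOf _
  haveI := Fintype.ofFinite U'
  have hU' : Fintype.card U' = Nat.card U := by
    rw [← Nat.card_eq_fintype_card]
    exact Nat.card_congr (Subgroup.subgroupOfEquivOfLe hUV).toEquiv
  have hn : (⟨x, hxV⟩ : ↥(normalizer (V : Set G))) ∈ normalizer (U' : Set ↥(normalizer (V : Set G))) := by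
    rw [mem_normalizer_iff]
    exact fun h => mem_normalizer_iff.mp hxU h
  have key := smul_pow_card_of_fpf (V := V) U' ⟨x, hxV⟩ hr (Subtype.ext hxr) hn
    (fun i hi hir w hw hc => Subtype.ext (hfU i hi hir w hw (congrArg Subtype.val hc)))
    (fun w hw => Subtype.ext (eq_one_of_not_fixes hfV w.2
      (mul_inv_eq_iff_eq_mul.mp (congrArg Subtype.val hw : x * (w : G) * x⁻¹ = w))))
  have hco' : (Nat.card V).Coprime (Fintype.card U') := hU'.symm ▸ hco.symm
  obtain ⟨w, hw⟩ := (powCoprime hco').surjective ⟨v, hv⟩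
  have hw' : w ^ Fintype.card U' = (⟨v, hv⟩ : V) := hw
  have := key w ⟨u, hUV hu⟩ hu
  rw [hw'] at this
  exact mul_inv_eq_iff_eq_mul.mp (congrArg Subtype.val this : u * v * u⁻¹ = v)

/-- If `x` is fixed-point-free on `V`, then `[U,x]` centralizes `V`, for abelian `U`. -/
theorem commutator_commute (V U : Subgroup G) (hV : ∀ a ∈ V, ∀ b ∈ V, Commute a b)
    (hU : ∀ a ∈ U, ∀ b ∈ U, Commute a b)
    (hUV : U ≤ normalizer (V : Set G)) {x : G} (hxV : x ∈ normalizer (V : Set G))
    (hxU : x ∈ normalizer (U : Set G)) {s : ℕ} (hs : s.Prime) (hxs : x ^ s = 1)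
    (hsU : ¬ s ∣ Nat.card U) (hco : (Nat.card U).Coprime (Nat.card V)) (hfV : ¬ Fixes x V)
    {u : G} (hu : u ∈ U) : ∀ v ∈ V, Commute (x * u * x⁻¹ * u⁻¹) v := by
  have hconj : ∀ a ∈ U, x * a * x⁻¹ ∈ U := fun a ha => (mem_normalizer_iff.mp hxU a).mp ha
  let W : Subgroup G :=
    { carrier := {c | ∃ a ∈ U, x * a * x⁻¹ * a⁻¹ = c}
      one_mem' := ⟨1, U.one_mem, by simp⟩
      mul_mem' := by
        rintro _ _ ⟨a, ha, rfl⟩ ⟨b, hb, rfl⟩
        refine ⟨a * b, U.mul_mem ha hb, ?_⟩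
        have h1 : Commute (x * b * x⁻¹) a⁻¹ := (hU _ (hconj b hb) a ha).inv_right
        have h2 : Commute a⁻¹ b⁻¹ := (hU a ha b hb).inv_left.inv_right
        calc x * (a * b) * x⁻¹ * (a * b)⁻¹
            = x * a * x⁻¹ * (x * b * x⁻¹) * (b⁻¹ * a⁻¹) := by group
          _ = x * a * x⁻¹ * ((x * b * x⁻¹) * a⁻¹) * b⁻¹ := by rw [← h2.eq]; group
          _ = x * a * x⁻¹ * a⁻¹ * (x * b * x⁻¹ * b⁻¹) := by rw [h1.eq]; group
      inv_mem' := by
        rintro _ ⟨a, ha, rfl⟩
        refine ⟨a⁻¹, U.inv_mem ha, ?_⟩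
        have h1 : Commute a (x * a⁻¹ * x⁻¹) := hU a ha _ (hconj _ (U.inv_mem ha))
        rw [inv_inv, ← h1.eq]
        group }
  have hWU : W ≤ U := by
    rintro _ ⟨a, ha, rfl⟩
    exact U.mul_mem (hconj a ha) (U.inv_mem ha)
  have hfix : ∀ c ∈ W, Commute x c → c = 1 := by
    rintro _ ⟨a, ha, rfl⟩ hc
    set c := x * a * x⁻¹ * a⁻¹ with hc'
    have hxa : x * a * x⁻¹ = c * a := by rw [hc']; group
    have hk : ∀ k : ℕ, x ^ k * a * (x ^ k)⁻¹ = c ^ k * a := by
      intro k
      induction k with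
      | zero => simp
      | succ k ih =>
        have hck : Commute x (c ^ k) := hc.pow_right k
        calc x ^ (k + 1) * a * (x ^ (k + 1))⁻¹ = x * (x ^ k * a * (x ^ k)⁻¹) * x⁻¹ := by
              rw [pow_succ']; group
          _ = x * c ^ k * a * x⁻¹ := by rw [ih]; group
          _ = c ^ k * (x * a * x⁻¹) := by rw [hck.eq]; group
          _ = c ^ (k + 1) * a := by rw [hxa, ← mul_assoc, ← pow_succ]
    have h1 := hk s
    rw [hxs, inv_one, mul_one, one_mul, right_eq_mul] at h1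
    exact eq_one_of_pow_eq_one_of_coprime (hWU ⟨a, ha, rfl⟩) h1 (hs.coprime_iff_not_dvd.mpr hsU)
  have hxW : x ∈ normalizer (W : Set G) := by
    refine mem_normalizer_of_conj_mem ?_
    rintro _ ⟨a, ha, rfl⟩
    exact ⟨x * a * x⁻¹, hconj a ha, by group⟩
  exact commute_of_fpf V W hV (hWU.trans hUV) hxV hxW hs.pos hxs
    (fun i hi his c hc hcx => hfix c hc (by
      obtain ⟨k, hk⟩ := exists_pow_eq_self_of_coprime (n := i) (x := x)
        (Nat.Coprime.coprime_dvd_right (orderOf_dvd_of_pow_eq_one hxs)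
          (Nat.Coprime.symm (hs.coprime_iff_not_dvd.mpr (Nat.not_dvd_of_pos_of_lt hi his))))
      rw [← hk]
      exact hcx.pow_left k))
    (Nat.Coprime.coprime_dvd_left (Subgroup.card_dvd_of_le hWU) hco) hfV _ ⟨u, hu, rfl⟩

/-- A rank-two elementary abelian group always has an element with fixed points. -/
theorem fixes_of_cover (V : Subgroup G) (hV : ∀ a ∈ V, ∀ b ∈ V, Commute a b) (hV1 : V ≠ ⊥)
    {a b : G} (haV : a ∈ normalizer (V : Set G)) (hbV : b ∈ normalizer (V : Set G))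
    {t : ℕ} (ht : t.Prime) (hab : Commute a b) (ha : a ^ t = 1) (hb : b ^ t = 1)
    (htV : ¬ t ∣ Nat.card V) : Fixes b V ∨ ∃ i, i < t ∧ Fixes (a * b ^ i) V := by
  letI := commGroupOf V hV
  letI := conjAction V hV
  by_contra hcon
  push Not at hcon
  apply hV1
  rw [Subgroup.eq_bot_iff_forall]
  intro v hv
  have h := pow_eq_one_of_cover (F := ↥(normalizer (V : Set G))) (V := V) (a := ⟨a, haV⟩)
    (b := ⟨b, hbV⟩) ht (Subtype.ext hab) (Subtype.ext ha) (Subtype.ext hb)
    (fun w hw => Subtype.ext (eq_one_of_not_fixes hcon.1 w.2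
      (mul_inv_eq_iff_eq_mul.mp (congrArg Subtype.val hw : b * (w : G) * b⁻¹ = w))))
    (fun i hi w hw => Subtype.ext (eq_one_of_not_fixes (hcon.2 i hi) w.2
      (mul_inv_eq_iff_eq_mul.mp
        (congrArg Subtype.val hw : a * b ^ i * (w : G) * (a * b ^ i)⁻¹ = w))))
    ⟨v, hv⟩
  exact eq_one_of_pow_eq_one_of_coprime hv (congrArg Subtype.val h)
    (ht.coprime_iff_not_dvd.mpr htV)

end Cfsg.Agent.FGS77.FourPrimes
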