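import Cfsg.Agent.FGS77.FourPrimes.NoncyclicCase
import Cfsg.Agent.LAE65.CyclicPGroup

/-!
# S3814: all normal elementary subgroups cyclic
-/

set_option autoImplicit false

namespace Cfsg.Agent.FGS77.FourPrimes

open Subgroup

variable {G : Type*} [Group G] [Finite G]

/-- Every normal elementary abelian subgroup of `K` is cyclic. -/
def CyclicMinimal (K : Subgroup G) : Prop :=
  ∀ (t : ℕ) (L : Subgroup G), Elem t L → L ≤ K → K ≤ normalizer (L : Set G) →
    ∀ a ∈ L, ∀ b ∈ L, a ≠ 1 → b ≠ 1 → b ∈ zpowers a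

theorem elem_zpowers {m : G} {t : ℕ} (ht : t.Prime) (hm : orderOf m = t) : Elem t (zpowers m) :=
  ⟨ht, fun h => ne_one_of_orderOf ht hm (zpowers_eq_bot.mp h),
    fun a ha b hb => by
      obtain ⟨i, rfl⟩ := ha
      obtain ⟨j, rfl⟩ := hb
      exact (Commute.refl m).zpow_zpow i j,
    fun v hv => by
      obtain ⟨i, rfl⟩ := hv
      dsimp only
      rw [← zpow_natCast, ← zpow_mul, mul_comm, zpow_mul, zpow_natCast, pow_orderOf' hm, one_zpow]⟩

omit [Finite G] in
theorem mem_centralizer_zpowers_iff {m y : G} :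
    y ∈ centralizer (zpowers m : Set G) ↔ Commute y m :=
  ⟨fun h => (mem_centralizer_iff.mp h m (mem_zpowers m)).symm, fun h => mem_centralizer_iff.mpr
    fun g hg => by
      obtain ⟨i, rfl⟩ := hg
      exact (h.symm.zpow_left i).eq⟩

omit [Finite G] in
/-- The automorphisms of a cyclic group commute. -/
theorem commutator_commute_of_normalizes {m u e : G} (hu : u ∈ normalizer (zpowers m : Set G))
    (he : e ∈ normalizer (zpowers m : Set G)) : Commute (u * e * u⁻¹ * e⁻¹) m := by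
  obtain ⟨n1, hn1⟩ := (mem_normalizer_iff.mp hu m).mp (mem_zpowers m)
  obtain ⟨m1, hm1⟩ := (mem_normalizer_iff.mp he m).mp (mem_zpowers m)
  obtain ⟨n2, hn2⟩ := (mem_normalizer_iff.mp (inv_mem hu) m).mp (mem_zpowers m)
  obtain ⟨m2, hm2⟩ := (mem_normalizer_iff.mp (inv_mem he) m).mp (mem_zpowers m)
  replace hn1 : m ^ n1 = u * m * u⁻¹ := hn1
  replace hm1 : m ^ m1 = e * m * e⁻¹ := hm1
  replace hn2 : m ^ n2 = u⁻¹ * m * u⁻¹⁻¹ := hn2
  replace hm2 : m ^ m2 = e⁻¹ * m * e⁻¹⁻¹ := hm2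
  have ru : ∀ k : ℤ, u * m ^ k * u⁻¹ = m ^ (n1 * k) := fun k => by rw [← conj_zpow, ← hn1, ← zpow_mul]
  have re : ∀ k : ℤ, e * m ^ k * e⁻¹ = m ^ (m1 * k) := fun k => by rw [← conj_zpow, ← hm1, ← zpow_mul]
  have ru' : ∀ k : ℤ, u⁻¹ * m ^ k * u⁻¹⁻¹ = m ^ (n2 * k) := fun k => by rw [← conj_zpow, ← hn2, ← zpow_mul]
  have cu : m ^ (n1 * n2) = m := by rw [← ru, hn2]; group
  have ce : m ^ (m1 * m2) = m := by rw [← re, hm2]; group
  refine mul_inv_eq_iff_eq_mul.mp ?_
  calc u * e * u⁻¹ * e⁻¹ * m * (u * e * u⁻¹ * e⁻¹)⁻¹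
      = u * (e * (u⁻¹ * (e⁻¹ * m * e⁻¹⁻¹) * u⁻¹⁻¹) * e⁻¹) * u⁻¹ := by group
    _ = m ^ (n1 * (m1 * (n2 * m2))) := by rw [← hm2, ru', re, ru]
    _ = m ^ ((n1 * n2) * (m1 * m2)) := by congr 1; ring
    _ = m := by rw [zpow_mul, cu, ce]

namespace One

variable {p q r s : ℕ} {V K : Subgroup G}

/-- The core configuration of the cyclic case. -/
theorem false_cyclic_core (d : One p q r s V K) (hcyc : CyclicMinimal K) {m : G} (hmK : m ∈ K)
    (hmq : orderOf m = q) (hmn : K ≤ normalizer (zpowers m : Set G)) {J : Subgroup G} (hJK : J ≤ K)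
    (hJ : Cfsg.IsPiHall ({r, s} : Set ℕ) J)
    (hRne : core r (J ⊓ centralizer (zpowers m : Set G)) ≠ ⊥)
    (huniq : ∀ a ∈ core r K, ∀ b ∈ core r K, orderOf a = r → orderOf b = r → b ∈ zpowers a) : False := by
  have hf := d.four
  haveI : Group.IsSolvable G := hf.solv
  haveI := Fact.mk hf.hq
  haveI := Fact.mk hf.hr
  haveI := Fact.mk hf.hs
  have hLe := elem_zpowers hf.hq hmq
  have hmLK : zpowers m ≤ K := zpowers_le.mpr hmK
  set J1 := J ⊓ centralizer (zpowers m : Set G) with hJ1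
  have hJ1m : ∀ {y : G}, y ∈ J1 → Commute y m := fun hy => mem_centralizer_zpowers_iff.mp hy.2
  have hmemJ1 : ∀ {y : G}, y ∈ J → Commute y m → y ∈ J1 := fun hy hc =>
    ⟨hy, mem_centralizer_zpowers_iff.mpr hc⟩
  have hJJ1 : J ≤ normalizer (J1 : Set G) := fun g hg =>
    le_normalizer_inf' g (le_normalizer hg) (mem_normalizer_centralizer (hmn (hJK hg)))
  set R := core r J1 with hR
  have hRJ1 : R ≤ J1 := core_le r J1
  have hRK : R ≤ K := hRJ1.trans (inf_le_left.trans hJK)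
  have hJR : J ≤ normalizer (R : Set G) := hJJ1.trans (core_normalizer r J1)
  have hRp := core_isPGroup r J1
  have hRm : ∀ {w : G}, w ∈ R → Commute w m := fun hw => hJ1m (hRJ1 hw)
  have hscop : ¬ s ∣ Nat.card R := fun h => by
    obtain ⟨g, hg, hgs⟩ := exists_orderOf_of_dvd hf.hs h
    exact hf.rs (eq_of_isPGroup hf.hr hRp hg hf.hs hgs).symm
  have noedge : ∀ {x z : G}, orderOf x = r → orderOf z = s → Commute x m → Commute z m →
      Commute x z → False := fun hx hz hxm hzm hxz => hf.nt_qrs hmq hx hz hxm.symm hxz hzm.symm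
  have hRz : ∀ {z w : G}, z ∈ J1 → orderOf z = s → w ∈ R → Commute z w → w = 1 := by
    intro z w hz hzs hw hzw
    by_contra hw1
    obtain ⟨i, hi⟩ := exists_pow_orderOf hf.hr hRp hw hw1
    exact noedge hi hzs ((hRm hw).pow_left i) (hJ1m hz) (hzw.pow_right i).symm
  set A1 := Recog71.omegaCenter R r with hA1
  have hA1e : Elem r A1 := elem_omega hf.hr hRp hRne
  have hA1R : A1 ≤ R := omega_le
  have hJA1 : J ≤ normalizer (A1 : Set G) := hJR.trans (normalizer_le_omega R r)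
  have hfix1 : ∀ {z : G}, z ∈ J1 → orderOf z = s → Fixes z V := by
    intro z hz hzs
    by_contra hzV
    obtain ⟨a, ha, ha1⟩ := hA1e.exists_ne_one
    have hzK : z ∈ K := hJK hz.1
    have haK : a ∈ K := hRK (hA1R ha)
    have h := d.faithful _ (mul_mem (mul_mem (mul_mem hzK haK) (inv_mem hzK)) (inv_mem haK))
      (commutator_commute V A1 d.hV.comm hA1e.comm ((hA1R.trans hRK).trans d.hKV) (d.hKV hzK)
        (hJA1 hz.1) hf.hs (pow_orderOf' hzs) (hA1e.not_dvd hf.hs hf.rs.symm)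
        (d.hV.coprime fun u hu hd => (hA1e.eq_of_dvd hu hd).symm ▸ hf.pr.symm) hzV ha)
    exact ha1 (hRz hz hzs (hA1R ha) (mul_inv_eq_iff_eq_mul.mp (mul_inv_eq_one.mp h)))
  have hdep1 : ∀ g ∈ J1, ∀ g' ∈ J1, orderOf g = s → orderOf g' = s → Commute g g' → g' ∈ zpowers g :=
    fun g hg g' hg' hgs hg's hc => hA1e.mem_zpowers_of_no_fixes hf.hs hf.rs (H := J1)
      (fun y hy hys ⟨w, hw, hw1, hyw⟩ => hw1 (hRz hy hys (hA1R hw) hyw))
      (hJA1 hg.1) (hJA1 hg'.1) hg hg' hc hgs hg's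
  have hout : ∀ {e : G}, e ∈ K → orderOf e = s → ¬ Commute e m → Fixes e V := by
    intro e he hes hne
    by_contra hfx
    have h := d.faithful _ (mul_mem (mul_mem (mul_mem he hmK) (inv_mem he)) (inv_mem hmK))
      (commutator_commute V (zpowers m) d.hV.comm hLe.comm (hmLK.trans d.hKV) (d.hKV he) (hmn he)
        hf.hs (pow_orderOf' hes) (hLe.not_dvd hf.hs hf.qs.symm)
        (d.hV.coprime fun u hu hd => (hLe.eq_of_dvd hu hd).symm ▸ hf.pq.symm) hfx (mem_zpowers m))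
    exact hne (mul_inv_eq_iff_eq_mul.mp (mul_inv_eq_one.mp h))
  have keyf : ∀ {f w : G}, f ∈ K → orderOf f = s → w ∈ R → orderOf w = r → Commute f w →
      ¬ Commute f m ∧ Fixes f V ∧ ¬ Fixes f (core q K) := by
    intro f w hfK hfs hw hwr hfw
    have hfm : ¬ Commute f m := fun h => noedge hwr hfs (hRm hw) h hfw.symm
    have hfV := hout hfK hfs hfm
    refine ⟨hfm, hfV, ?_⟩
    rintro ⟨x, hx, hx1, hfx⟩
    obtain ⟨v, hv, hv1, hfv⟩ := hfV
    obtain ⟨i, hi⟩ := exists_pow_orderOf hf.hq (core_isPGroup q K) hx hx1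
    exact hf.swap34.swap23.swap12.no_three_in_centralizer hfs (d.hV.orderOf_eq hv hv1) hi hwr hfv
      (hfx.pow_right i) hfw
  have uniqW : ∀ {f w w' : G}, f ∈ J → orderOf f = s → w ∈ R → w' ∈ R → orderOf w = r → orderOf w' = r →
      Commute f w → Commute f w' → w' ∈ zpowers w := by
    intro f w w' hfJ hfs hw hw' hwr hw'r hfw hfw'
    obtain ⟨v, hv, hv1, hfv⟩ := (keyf (hJK hfJ) hfs hw hwr hfw).2.1
    set C := V ⊓ centralizer ({f} : Set G) with hC
    have hCe : Elem p C := d.hV.inf _ fun h => hv1 (mem_bot.mp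
      (h ▸ (⟨hv, mem_centralizer_singleton_iff.mpr hfv.eq.symm⟩ : v ∈ C)))
    set X := R ⊓ centralizer ({f} : Set G) with hX
    have hwX : ∀ {g : G}, g ∈ R → Commute f g → g ∈ X := fun hg hc =>
      ⟨hg, mem_centralizer_singleton_iff.mpr hc.eq.symm⟩
    have hnC : ∀ g ∈ X, g ∈ normalizer (C : Set G) := fun g hg => mem_normalizer_of_conj_mem fun y hy => by
      have hfg : Commute f g := (mem_centralizer_singleton_iff.mp hg.2).symm
      have hfy : Commute f y := (mem_centralizer_singleton_iff.mp hy.2).symm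
      exact ⟨(mem_normalizer_iff.mp (d.hKV (hRK hg.1)) y).mp hy.1,
        mem_centralizer_singleton_iff.mpr ((hfg.mul_right hfy).mul_right hfg.inv_right).eq.symm⟩
    have hXp : IsPGroup r X := IsPGroup.to_le hRp inf_le_left
    have hXne : X ≠ ⊥ := fun h => ne_one_of_orderOf hf.hr hwr (mem_bot.mp (h ▸ hwX hw hfw))
    obtain ⟨w0, -, hw0r, -, hgen⟩ := exists_omega_generator hf.hr hXp hXne
      fun a ha b hb har hbr hab => hCe.mem_zpowers_of_no_fixes hf.hr hf.pr (H := X)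
        (fun y hy hyr ⟨u, hu, hu1, hyu⟩ => hf.nt_prs (d.hV.orderOf_eq hu.1 hu1) hyr hfs hyu.symm
          (mem_centralizer_singleton_iff.mp hy.2) (mem_centralizer_singleton_iff.mp hu.2))
        (hnC a ha) (hnC b hb) ha hb hab har hbr
    exact zpowers_le.mpr (zpowers_eq_of_mem hf.hr hw0r hwr (hgen w (hwX hw hfw) hwr))
      (hgen w' (hwX hw' hfw') hw'r)
  obtain ⟨a, haJ, b, hbJ, has, hbs, hab, hne⟩ := exists_pair_hall (swap24 hf).swap12 hJ (Or.inr rfl)
  have hmulJ : ∀ i : ℕ, a * b ^ i ∈ J := fun i => mul_mem haJ (pow_mem hbJ i)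
  have hmulo := orderOf_mul_pow hf.hs hab has hbs hne
  -- some element of `⟨a, b⟩` centralizes `m`
  obtain ⟨z, hzJ1, hzs, hza, hzb⟩ : ∃ z ∈ J1, orderOf z = s ∧ Commute z a ∧ Commute z b := by
    rcases fixes_of_cover (zpowers m) hLe.comm hLe.ne_bot (hmn (hJK haJ)) (hmn (hJK hbJ)) hf.hs hab
      (pow_orderOf' has) (pow_orderOf' hbs) (hLe.not_dvd hf.hs hf.qs.symm) with h | ⟨i, -, h⟩ <;>
      obtain ⟨g, hg, hg1, hc⟩ := h
    · exact ⟨b, hmemJ1 hbJ (commute_of_mem_zpowers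
        (zpowers_eq_of_mem hf.hq hmq (hLe.orderOf_eq hg hg1) hg) hc.symm).symm, hbs, hab.symm, Commute.refl b⟩
    · exact ⟨a * b ^ i, hmemJ1 (hmulJ i) (commute_of_mem_zpowers
        (zpowers_eq_of_mem hf.hq hmq (hLe.orderOf_eq hg hg1) hg) hc.symm).symm, hmulo i,
        (Commute.refl a).mul_left (hab.symm.pow_left i), hab.mul_left ((Commute.refl b).pow_left i)⟩
  -- some element of `⟨a, b⟩` centralizes an element of order `r` of `R`
  obtain ⟨f₀, hf₀J, hf₀s, hf₀a, hf₀b, w₀, hw₀, hw₀r, hf₀w⟩ : ∃ f ∈ J, orderOf f = s ∧ Commute f a ∧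
      Commute f b ∧ ∃ w ∈ R, orderOf w = r ∧ Commute f w := by
    by_contra hcon
    push Not at hcon
    refine hRne (le_bot_iff.mp (le_of_lines hf.hs hab has hbs hne (hJR haJ) (hJR hbJ) hscop ?_ ?_))
    · intro w hw hc
      rw [mem_bot]
      by_contra hw1
      obtain ⟨j, hj⟩ := exists_pow_orderOf hf.hr hRp hw hw1
      exact hcon b hbJ hbs hab.symm (Commute.refl b) _ (pow_mem hw j) hj (hc.pow_right j)
    · intro i w hw hc
      rw [mem_bot]
      by_contra hw1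
      obtain ⟨j, hj⟩ := exists_pow_orderOf hf.hr hRp hw hw1
      exact hcon _ (hmulJ i) (hmulo i) ((Commute.refl a).mul_left (hab.symm.pow_left i))
        (hab.mul_left ((Commute.refl b).pow_left i)) _ (pow_mem hw j) hj (hc.pow_right j)
  have hsr1 : s ∣ r - 1 := by
    have hzf : Commute z f₀ := by
      have hle : ∀ g : G, Commute g a → Commute g b → Commute g z → Commute z g := fun g _ _ h => h.symm
      rcases fixes_of_cover (zpowers m) hLe.comm hLe.ne_bot (hmn (hJK haJ)) (hmn (hJK hbJ)) hf.hs hab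
        (pow_orderOf' has) (pow_orderOf' hbs) (hLe.not_dvd hf.hs hf.qs.symm) with h | ⟨i, -, h⟩ <;>
        obtain ⟨g, hg, hg1, hc⟩ := h
      · have hbm : b ∈ J1 := hmemJ1 hbJ (commute_of_mem_zpowers
          (zpowers_eq_of_mem hf.hq hmq (hLe.orderOf_eq hg hg1) hg) hc.symm).symm
        exact commute_of_mem_zpowers (hdep1 b hbm z hzJ1 hbs hzs hzb.symm) hf₀b.symm
      · have hbm : a * b ^ i ∈ J1 := hmemJ1 (hmulJ i) (commute_of_mem_zpowers
          (zpowers_eq_of_mem hf.hq hmq (hLe.orderOf_eq hg hg1) hg) hc.symm).symm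
        exact commute_of_mem_zpowers (hdep1 _ hbm z hzJ1 (hmulo i) hzs
          (hza.mul_right (hzb.pow_right i)).symm) (hf₀a.mul_right (hf₀b.pow_right i)).symm
    have hzw : z * w₀ * z⁻¹ ∈ R := (mem_normalizer_iff.mp (hJR hzJ1.1) w₀).mp hw₀
    have hc : Commute f₀ (z * w₀ * z⁻¹) := ((hzf.symm.mul_right hf₀w).mul_right hzf.symm.inv_right)
    have hmem := uniqW hf₀J hf₀s hw₀ hzw hw₀r (by rw [orderOf_conj, hw₀r]) hf₀w hc
    rw [← mem_powers_iff_mem_zpowers, Submonoid.mem_powers_iff] at hmem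
    obtain ⟨k, hk⟩ := hmem
    exact dvd_pred_of_conj hf.hs hf.hr (pow_orderOf' hzs) hw₀r hk.symm fun h =>
      ne_one_of_orderOf hf.hr hw₀r (hRz hzJ1 hzs hw₀ (mul_inv_eq_iff_eq_mul.mp h))
  have hs2 := hf.hs.two_le
  have hr2 := hf.hr.two_le
  have hsr : s ≤ r - 1 := Nat.le_of_dvd (by omega) hsr1
  have hinR : ∀ y ∈ J1, orderOf y = r → y ∈ R := by
    intro y hy hyr
    by_contra hyR
    obtain ⟨a₀, ha₀, ha₀s, hmod⟩ := exists_normal_mod_core (J := J1) inferInstance hf.hr hf.hs hf.rs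
      (fun t ht hd => by
        obtain ⟨g, hg, hgt⟩ := exists_orderOf_of_dvd ht hd
        exact d.primes_J hJ hg.1 ht hgt)
      hdep1 hy hyr hyR
    obtain ⟨k, hk⟩ := hmod y hy
    have hyN : y ∈ normalizer (R : Set G) := hJR hy.1
    have haN : a₀ ∈ normalizer (R : Set G) := hJR ha₀.1
    by_cases hk1 : a₀ ^ k = a₀
    · rw [hk1] at hk
      have hdR : y⁻¹ * a₀ * y * a₀⁻¹ ∈ R := by
        have h1 := (mem_normalizer_iff.mp (inv_mem hyN) _).mp hk
        have h2 : y⁻¹ * (a₀ * (y * a₀ * y⁻¹)⁻¹) * y⁻¹⁻¹ = y⁻¹ * a₀ * y * a₀⁻¹ := by group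
        rwa [h2] at h1
      have hpow : ∀ n : ℕ, y⁻¹ * a₀ ^ n * y * (a₀ ^ n)⁻¹ ∈ R := by
        intro n
        induction n with
        | zero => simp
        | succ n ih =>
          have h1 : a₀ * (y⁻¹ * a₀ ^ n * y * (a₀ ^ n)⁻¹) * a₀⁻¹ ∈ R :=
            (mem_normalizer_iff.mp haN _).mp ih
          have h2 : y⁻¹ * a₀ ^ (n + 1) * y * (a₀ ^ (n + 1))⁻¹ = (y⁻¹ * a₀ * y * a₀⁻¹) *
              (a₀ * (y⁻¹ * a₀ ^ n * y * (a₀ ^ n)⁻¹) * a₀⁻¹) := by rw [pow_succ']; group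
          rw [h2]
          exact mul_mem hdR h1
      obtain ⟨n, hn, hfix⟩ := Coprime.exists_fixed_in_coset (zpowers a₀) R (zpowers_le.mpr haN)
        (by rw [Nat.card_zpowers, ha₀s]; exact hf.hs.coprime_iff_not_dvd.mpr hscop)
        (Or.inl (Group.isSolvable_of_comm fun a b => mul_comm' a b)) y (fun g hg => by
          obtain ⟨j, rfl⟩ := (Submonoid.mem_powers_iff g a₀).mp (mem_powers_iff_mem_zpowers.mpr hg)
          simpa [mul_assoc] using hpow j)
      have hgr : IsPGroup r (R ⊔ zpowers y : Subgroup G) :=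
        hRp.to_sup_of_normal_left' (IsPGroup.of_card (n := 1) (by rw [Nat.card_zpowers, hyr, pow_one]))
          (zpowers_le.mpr hyN)
      have hg : y * n ∈ R ⊔ zpowers y := mul_mem (mem_sup_right (mem_zpowers y)) (mem_sup_left hn)
      have hg1 : y * n ≠ 1 := fun h => hyR (by
        rw [eq_inv_of_mul_eq_one_left h]; exact inv_mem hn)
      obtain ⟨j, hj⟩ := exists_pow_orderOf hf.hr hgr hg hg1
      have hc : Commute (y * n) a₀ := (mem_centralizer_iff.mp hfix a₀ (mem_zpowers a₀) : _ = _).symm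
      exact noedge hj ha₀s (((hJ1m hy).mul_left (hRm hn)).pow_left j) (hJ1m ha₀) (hc.pow_left j)
    · set N := normalizer (R : Set G) with hN
      haveI : (R.subgroupOf N).Normal := Subgroup.normal_in_normalizer
      let f := QuotientGroup.mk' (R.subgroupOf N)
      have hker : ∀ x : N, f x = 1 ↔ (x : G) ∈ R := fun x => QuotientGroup.eq_one_iff x
      have hfa : orderOf (f ⟨a₀, haN⟩) = s := by
        refine orderOf_eq_prime (by rw [← map_pow, hker]; simp [pow_orderOf' ha₀s]) ?_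
        rw [Ne, hker]
        exact fun h => hf.rs (eq_of_isPGroup hf.hr hRp h hf.hs ha₀s).symm
      have hrel : f ⟨y, hyN⟩ * f ⟨a₀, haN⟩ * (f ⟨y, hyN⟩)⁻¹ = f ⟨a₀, haN⟩ ^ k := by
        symm
        rw [← mul_inv_eq_one, ← map_inv, ← map_mul, ← map_mul, ← map_pow, ← map_inv, ← map_mul, hker]
        exact hk
      have hrs1 : r ∣ s - 1 := dvd_pred_of_conj hf.hr hf.hs
        (by rw [← map_pow, hker]; simp [pow_orderOf' hyr]) hfa hrel (fun h => hk1 (by
          rw [h] at hrel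
          have h3 : f ⟨a₀, haN⟩ ^ k = f ⟨a₀, haN⟩ ^ 1 := by rw [pow_one]; exact hrel.symm
          rw [pow_eq_pow_iff_modEq, hfa] at h3
          rw [← pow_one a₀, ← pow_mul, one_mul, pow_eq_pow_iff_modEq, ha₀s]
          exact h3))
      have := Nat.le_of_dvd (by omega) hrs1
      omega
  -- the other cores
  have hOs : core s K = ⊥ := by
    by_contra hne'
    have hNe := elem_omega hf.hs (core_isPGroup s K) hne'
    obtain ⟨kk, hkk, hkk1⟩ := hNe.exists_ne_one
    have hkJ : kk ∈ J := le_hall_of_normalized (X := Recog71.omegaCenter (core s K) s) d.isSolvable hJK hJ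
      (omega_le.trans (core_le s K)) ((le_normalizer_core s K).trans (normalizer_le_omega _ s))
      (fun u hu hd => Or.inr (hNe.eq_of_dvd hu hd)) hkk
    have hmT : m ∈ core q K := le_core hmLK hLe.isPGroup hmn (mem_zpowers m)
    have hk1 : kk ∈ J1 := hmemJ1 hkJ (core_commute hf.hs hf.hq hf.qs.symm K (omega_le hkk) hmT)
    obtain ⟨w, hw, hw1⟩ := hA1e.exists_ne_one
    have hwR := hA1R hw
    have hc1 : kk * w * kk⁻¹ * w⁻¹ ∈ R :=
      mul_mem ((mem_normalizer_iff.mp (hJR hkJ) w).mp hwR) (inv_mem hwR)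
    have hc2 : kk * w * kk⁻¹ * w⁻¹ ∈ core s K := by
      have h1 : w * kk⁻¹ * w⁻¹ ∈ core s K :=
        (mem_normalizer_iff.mp (le_normalizer_core s K (hRK hwR)) _).mp (inv_mem (omega_le hkk))
      simpa [mul_assoc] using mul_mem (omega_le hkk) h1
    have hdis := IsPGroup.disjoint_of_ne r s hf.rs R (core s K) hRp (core_isPGroup s K)
    have hone : kk * w * kk⁻¹ * w⁻¹ = 1 := mem_bot.mp (hdis.le_bot ⟨hc1, hc2⟩)
    exact hw1 (hRz hk1 (hNe.orderOf_eq hkk hkk1) hwR (mul_inv_eq_iff_eq_mul.mp (mul_inv_eq_one.mp hone)))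
  have hcores : ∀ u : ℕ, u.Prime → u ≠ q → u ≠ r → core u K = ⊥ := by
    intro u hu h1 h2
    by_contra hne'
    obtain ⟨x, hx, hx1⟩ := (elem_omega hu (core_isPGroup u K) hne').exists_ne_one
    rcases d.prime_order (core_le u K (omega_le hx)) hu
      ((elem_omega hu (core_isPGroup u K) hne').orderOf_eq hx hx1) with e | e | e
    exacts [h1 e, h2 e, hne' (e ▸ hOs)]
  have hTrcyc : IsCyclic (core r K) :=
    LAE65.isCyclic_of_unique_order_p (p := r) (by omega) (core_isPGroup r K) fun x y hx hx1 hy => by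
      by_cases hy1 : y = 1
      · rw [hy1]; exact one_mem _
      obtain ⟨i, hi⟩ := huniq x x.2 y y.2
        (by rw [Subgroup.orderOf_coe]; exact orderOf_eq_prime hx hx1)
        (by rw [Subgroup.orderOf_coe]; exact orderOf_eq_prime hy hy1)
      exact ⟨i, Subtype.ext (by push_cast; exact hi)⟩
  -- the special element `e`
  obtain ⟨e, heJ, hes, hea, heb, ⟨we, hwe, hwer, hewe⟩, hecore⟩ : ∃ e ∈ J, orderOf e = s ∧
      Commute e a ∧ Commute e b ∧ (∃ w ∈ R, orderOf w = r ∧ Commute e w) ∧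
      ∀ w ∈ core r K, orderOf w = r → Commute e w := by
    by_cases hTr : core r K = ⊥
    · exact ⟨f₀, hf₀J, hf₀s, hf₀a, hf₀b, ⟨w₀, hw₀, hw₀r, hf₀w⟩, fun w hw hwr =>
        absurd (mem_bot.mp (hTr ▸ hw)) (ne_one_of_orderOf hf.hr hwr)⟩
    obtain ⟨n, hn, hn1⟩ := (elem_omega hf.hr (core_isPGroup r K) hTr).exists_ne_one
    have hnr := (elem_omega hf.hr (core_isPGroup r K) hTr).orderOf_eq hn hn1
    have hnT : n ∈ core r K := omega_le hn
    have hKn : K ≤ normalizer (zpowers n : Set G) := fun g hg => mem_normalizer_of_conj_mem (by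
      rintro _ ⟨i, rfl⟩
      dsimp only
      rw [← conj_zpow]
      exact zpow_mem (huniq n hnT _ ((mem_normalizer_iff.mp (le_normalizer_core r K hg) n).mp hnT) hnr
        (by rw [orderOf_conj, hnr])) i)
    have hNe := elem_zpowers hf.hr hnr
    have hnK : zpowers n ≤ K := zpowers_le.mpr (core_le r K hnT)
    have hnm : Commute n m := core_commute hf.hr hf.hq hf.qr.symm K hnT
      (le_core hmLK hLe.isPGroup hmn (mem_zpowers m))
    have hnJ : zpowers n ≤ J := le_hall_of_normalized d.isSolvable hJK hJ hnK hKn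
      (fun u hu hd => Or.inl (hNe.eq_of_dvd hu hd))
    have hnR : n ∈ R := le_core (zpowers_le.mpr (hmemJ1 (hnJ (mem_zpowers n)) hnm)) hNe.isPGroup
      (fun g hg => hKn (hJK hg.1)) (mem_zpowers n)
    rcases fixes_of_cover (zpowers n) hNe.comm hNe.ne_bot (hKn (hJK haJ)) (hKn (hJK hbJ)) hf.hs hab
      (pow_orderOf' has) (pow_orderOf' hbs) (hNe.not_dvd hf.hs hf.rs.symm) with h | ⟨i, -, h⟩ <;>
      obtain ⟨g, hg, hg1, hc⟩ := h
    · have hcn : Commute b n := (commute_of_mem_zpowers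
        (zpowers_eq_of_mem hf.hr hnr (hNe.orderOf_eq hg hg1) hg) hc.symm).symm
      exact ⟨b, hbJ, hbs, hab.symm, Commute.refl b, ⟨n, hnR, hnr, hcn⟩, fun w hw hwr =>
        (commute_of_mem_zpowers (huniq n hnT w hw hnr hwr) hcn.symm).symm⟩
    · have hcn : Commute (a * b ^ i) n := (commute_of_mem_zpowers
        (zpowers_eq_of_mem hf.hr hnr (hNe.orderOf_eq hg hg1) hg) hc.symm).symm
      exact ⟨a * b ^ i, hmulJ i, hmulo i, (Commute.refl a).mul_left (hab.symm.pow_left i),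
        hab.mul_left ((Commute.refl b).pow_left i), ⟨n, hnR, hnr, hcn⟩, fun w hw hwr =>
        (commute_of_mem_zpowers (huniq n hnT w hw hnr hwr) hcn.symm).symm⟩
  have heT := (keyf (hJK heJ) hes hwe hwer hewe).2.2
  have hclaim : ∀ {f w : G}, f ∈ J → orderOf f = s → Commute e f → w ∈ R → orderOf w = r → Commute f w →
      Commute e w := by
    intro f w hfJ hfs hef hw hwr hfw
    by_contra hne'
    have hw' : e * w * e⁻¹ ∈ R := (mem_normalizer_iff.mp (hJR heJ) w).mp hw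
    have hmem := uniqW hfJ hfs hw hw' hwr (by rw [orderOf_conj, hwr]) hfw
      ((hef.symm.mul_right hfw).mul_right hef.symm.inv_right)
    rw [← mem_powers_iff_mem_zpowers, Submonoid.mem_powers_iff] at hmem
    obtain ⟨k, hk⟩ := hmem
    have hcT := commute_of_fpf_pgroup hf.hq (core_isPGroup q K) hf.hs hf.hr hf.qs.symm hf.qr.symm
      hf.rs.symm (pow_orderOf' hes) hwr (le_normalizer_core q K (hJK heJ))
      (le_normalizer_core q K (hRK hw)) hk.symm (fun h => hne' (mul_inv_eq_iff_eq_mul.mp h)) heT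
    exact hne' (hecore w (mem_core_of_centralizes d.isSolvable hf.hq hf.hr hf.qr hcores hTrcyc (hRK hw)
      (pow_orderOf' hwr) hcT) hwr)
  have hline : ∀ f ∈ J, orderOf f = s → Commute e f → ∀ w ∈ R, Commute f w →
      w ∈ centralizer ({e} : Set G) := by
    intro f hfJ hfs hef w hw hfw
    refine mem_centralizer_singleton_iff.mpr ?_
    by_cases hw1 : w = 1
    · simp [hw1]
    obtain ⟨j, hj⟩ := exists_pow_orderOf hf.hr hRp hw hw1
    have hwj := pow_mem hw j
    have hew := hclaim hfJ hfs hef hwj hj (hfw.pow_right j)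
    have hfe : f ∈ zpowers e := hLe.mem_zpowers_of_no_fixes hf.hs hf.qs
      (H := centralizer ({w ^ j} : Set G)) (fun y hy hys ⟨g, hg, hg1, hyg⟩ =>
        noedge hj hys (hRm hwj) (commute_of_mem_zpowers
          (zpowers_eq_of_mem hf.hq hmq (hLe.orderOf_eq hg hg1) hg) hyg.symm).symm
          (mem_centralizer_singleton_iff.mp hy : Commute y (w ^ j)).symm)
      (hmn (hJK heJ)) (hmn (hJK hfJ)) (mem_centralizer_singleton_iff.mpr hew.eq)
      (mem_centralizer_singleton_iff.mpr (hfw.pow_right j).eq) hef hes hfs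
    exact (commute_of_mem_zpowers (zpowers_eq_of_mem hf.hs hes hfs hfe) hfw).eq.symm
  have hRe : R ≤ centralizer ({e} : Set G) := le_of_lines hf.hs hab has hbs hne (hJR haJ) (hJR hbJ) hscop
    (hline b hbJ hbs heb) (fun i => hline _ (hmulJ i) (hmulo i) (hea.mul_right (heb.pow_right i)))
  have hRec : ∀ {w : G}, w ∈ R → Commute e w := fun hw => (mem_centralizer_singleton_iff.mp (hRe hw)).symm
  obtain ⟨ρ, hρR, hρr, -, hρgen⟩ := exists_omega_generator hf.hr hRp hRne fun x hx y hy hxr hyr hxy =>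
    uniqW heJ hes hx hy hxr hyr (hRec hx) (hRec hy)
  have hJρ : ∀ g ∈ J, g ∈ normalizer (zpowers ρ : Set G) := fun g hg => mem_normalizer_of_conj_mem (by
    rintro _ ⟨i, rfl⟩
    dsimp only
    rw [← conj_zpow]
    exact zpow_mem (hρgen _ ((mem_normalizer_iff.mp (hJR hg) ρ).mp hρR) (by rw [orderOf_conj, hρr])) i)
  obtain ⟨u₁, hu₁, u₂, hu₂, hu₁r, hu₂r, hu₁₂, hu₂ne⟩ := exists_pair_hall (swap13 hf) hJ (Or.inl rfl)
  obtain ⟨u, huJ, hur, hum⟩ : ∃ u ∈ J, orderOf u = r ∧ ¬ Commute u m := by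
    by_contra hcon
    push Not at hcon
    have h1 := hρgen u₁ (hinR u₁ (hmemJ1 hu₁ (hcon u₁ hu₁ hu₁r)) hu₁r) hu₁r
    have h2 := hρgen u₂ (hinR u₂ (hmemJ1 hu₂ (hcon u₂ hu₂ hu₂r)) hu₂r) hu₂r
    exact hu₂ne (zpowers_le.mpr (zpowers_eq_of_mem hf.hr hρr hu₁r h1) h2)
  have hem : ¬ Commute e m := (keyf (hJK heJ) hes hρR hρr (hRec hρR)).1
  set Z := J1 ⊓ centralizer (zpowers ρ : Set G) with hZ
  have hZp : IsPGroup r Z := isPGroup_of_orders hf.hr fun g hg t ht hgt => by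
    rcases d.primes_J hJ hg.1.1 ht hgt with h | h
    · exact h
    · exact absurd (mem_centralizer_zpowers_iff.mp hg.2).symm (fun hc =>
        noedge hρr (h ▸ hgt) (hRm hρR) (hJ1m hg.1) hc)
  have hZR : Z ≤ R := le_core inf_le_left hZp fun g hg =>
    le_normalizer_inf' g (hJJ1 hg.1) (mem_normalizer_centralizer (hJρ g hg.1))
  have hgR : u * e * u⁻¹ * e⁻¹ ∈ R := hZR
    ⟨hmemJ1 (mul_mem (mul_mem (mul_mem huJ heJ) (inv_mem huJ)) (inv_mem heJ))
      (commutator_commute_of_normalizes (hmn (hJK huJ)) (hmn (hJK heJ))),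
     mem_centralizer_zpowers_iff.mpr (commutator_commute_of_normalizes (hJρ u huJ) (hJρ e heJ))⟩
  have hue : Commute u e := by
    have h1 : (u * e * u⁻¹ * e⁻¹ * e) ^ s = 1 := by
      rw [inv_mul_cancel_right, conj_pow, pow_orderOf' hes, mul_one, mul_inv_cancel]
    rw [(hRec hgR).symm.mul_pow, pow_orderOf' hes, mul_one] at h1
    have := eq_one_of_pow_eq_one_of_coprime hgR h1 (hf.hs.coprime_iff_not_dvd.mpr hscop)
    exact mul_inv_eq_iff_eq_mul.mp (mul_inv_eq_one.mp this)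
  rcases d.pair hLe hmLK hmn (hJK huJ) (hJK heJ) hur hes hue with h | h
  · exact hum (h m (mem_zpowers m))
  · exact hem (h m (mem_zpowers m))

theorem false_cyclic_aux (d : One p q r s V K) (hcyc : CyclicMinimal K) {m : G} (hmK : m ∈ K)
    (hmq : orderOf m = q) (hmn : K ≤ normalizer (zpowers m : Set G)) {J : Subgroup G} (hJK : J ≤ K)
    (hJ : Cfsg.IsPiHall ({r, s} : Set ℕ) J)
    (hRne : core r (J ⊓ centralizer (zpowers m : Set G)) ≠ ⊥) : False := by
  by_cases huniq : ∀ a ∈ core r K, ∀ b ∈ core r K, orderOf a = r → orderOf b = r → b ∈ zpowers a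
  · exact d.false_cyclic_core hcyc hmK hmq hmn hJK hJ hRne huniq
  push Not at huniq
  obtain ⟨a, ha, b, hb, har, hbr, hne⟩ := huniq
  have hf := d.four
  haveI := Fact.mk hf.hq
  haveI := Fact.mk hf.hr
  set T := core r K
  have hTne : T ≠ ⊥ := fun h => ne_one_of_orderOf hf.hr har (mem_bot.mp (h ▸ ha))
  have hΩ := elem_omega hf.hr (core_isPGroup r K) hTne
  obtain ⟨n, hn, hn1⟩ := hΩ.exists_ne_one
  have hnr := hΩ.orderOf_eq hn hn1
  have hΩK : K ≤ normalizer (Recog71.omegaCenter T r : Set G) :=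
    (le_normalizer_core r K).trans (normalizer_le_omega T r)
  have hngen : ∀ x ∈ Recog71.omegaCenter T r, x ∈ zpowers n := fun x hx => by
    by_cases hx1 : x = 1
    · rw [hx1]; exact one_mem _
    exact hcyc r _ hΩ (omega_le.trans (core_le r K)) hΩK n hn x hx hn1 hx1
  have hKn : K ≤ normalizer (zpowers n : Set G) := fun g hg => mem_normalizer_of_conj_mem (by
    rintro _ ⟨i, rfl⟩
    dsimp only
    rw [← conj_zpow]
    exact zpow_mem (hngen _ ((mem_normalizer_iff.mp (hΩK hg) n).mp hn)) i)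
  obtain ⟨w, hw, hwr, hwn⟩ : ∃ w ∈ T, orderOf w = r ∧ w ∉ zpowers n := by
    by_contra hcon
    push Not at hcon
    exact hne (zpowers_le.mpr (zpowers_eq_of_mem hf.hr hnr har (hcon a ha har)) (hcon b hb hbr))
  have hcomm : Commute n w := hn.2.1 w hw
  obtain ⟨x, hxT, hxr, v, hv, hv1, hxv⟩ : ∃ x ∈ T, orderOf x = r ∧ Fixes x V := by
    rcases fixes_of_cover V d.hV.comm d.hV.ne_bot (d.hKV (core_le r K (omega_le hn)))
      (d.hKV (core_le r K hw)) hf.hr hcomm (pow_orderOf' hnr) (pow_orderOf' hwr)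
      (d.hV.not_dvd hf.hr hf.pr.symm) with h | ⟨i, -, h⟩
    · exact ⟨w, hw, hwr, h⟩
    · exact ⟨n * w ^ i, mul_mem (omega_le hn) (pow_mem hw i), orderOf_mul_pow hf.hr hcomm hnr hwr hwn i, h⟩
  set C := V ⊓ centralizer ({x} : Set G) with hC
  have hCe : Elem p C := d.hV.inf _ fun h => hv1 (mem_bot.mp
    (h ▸ (⟨hv, mem_centralizer_singleton_iff.mpr hxv.eq.symm⟩ : v ∈ C)))
  have hmT : m ∈ core q K := le_core (zpowers_le.mpr hmK) (elem_zpowers hf.hq hmq).isPGroup hmn (mem_zpowers m)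
  have hnC : ∀ g ∈ core q K, g ∈ normalizer (C : Set G) := fun g hg =>
    mem_normalizer_of_conj_mem fun y hy => ⟨(mem_normalizer_iff.mp (d.hKV (core_le q K hg)) y).mp hy.1,
      mem_centralizer_singleton_iff.mpr (((((core_commute hf.hq hf.hr hf.qr K hg hxT).symm).mul_right
        (mem_centralizer_singleton_iff.mp hy.2 : Commute y x).symm).mul_right
        (core_commute hf.hq hf.hr hf.qr K hg hxT).symm.inv_right).eq.symm)⟩
  obtain ⟨ν, -, hνq, -, hνgen⟩ := exists_omega_generator hf.hq (core_isPGroup q K)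
    (fun h => ne_one_of_orderOf hf.hq hmq (mem_bot.mp (h ▸ hmT))) fun g hg g' hg' hgq hg'q hc =>
      hCe.mem_zpowers_of_no_fixes hf.hq hf.pq (H := core q K) (fun y hy hyq ⟨u, hu, hu1, hyu⟩ =>
        hf.nt_pqr (d.hV.orderOf_eq hu.1 hu1) hyq hxr hyu.symm (core_commute hf.hq hf.hr hf.qr K hy hxT)
          (mem_centralizer_singleton_iff.mp hu.2)) (hnC g hg) (hnC g' hg') hg hg' hc hgq hg'q
  obtain ⟨J₂, hJ₂K, hJ₂⟩ := d.swapQR.exists_hall_rs
  refine d.swapQR.false_cyclic_core hcyc (core_le r K (omega_le hn)) hnr hKn hJ₂K hJ₂ ?_ ?_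
  · intro hbot
    refine ne_one_of_orderOf hf.hq hmq (mem_bot.mp (hbot ▸ ?_))
    have hmJ : zpowers m ≤ J₂ := le_hall_of_normalized d.isSolvable hJ₂K hJ₂ (zpowers_le.mpr hmK) hmn
      (fun u hu hd => Or.inl ((elem_zpowers hf.hq hmq).eq_of_dvd hu hd))
    exact le_core (X := zpowers m) (H := J₂ ⊓ centralizer (zpowers n : Set G)) (zpowers_le.mpr ⟨hmJ (mem_zpowers m), mem_centralizer_zpowers_iff.mpr
      (core_commute hf.hq hf.hr hf.qr K hmT (omega_le hn))⟩) (elem_zpowers hf.hq hmq).isPGroup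
      (fun g hg => hmn (hJ₂K hg.1)) (mem_zpowers m)
  · exact fun g hg g' hg' hgq hg'q =>
      zpowers_le.mpr (zpowers_eq_of_mem hf.hq hνq hgq (hνgen g hg hgq)) (hνgen g' hg' hg'q)

theorem false_cyclic_at (d : One p q r s V K) (hcyc : CyclicMinimal K) {m : G} (hmK : m ∈ K)
    (hmq : orderOf m = q) (hmn : K ≤ normalizer (zpowers m : Set G)) : False := by
  have hf := d.four
  haveI : Group.IsSolvable G := hf.solv
  obtain ⟨J, hJK, hJ⟩ := d.exists_hall_rs
  obtain ⟨a, ha, b, hb, har, hbr, hab, hne⟩ := exists_pair_hall (swap13 hf) hJ (Or.inl rfl)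
  have hLe := elem_zpowers hf.hq hmq
  set J1 := J ⊓ centralizer (zpowers m : Set G) with hJ1
  have hne1 : J1 ≠ ⊥ := by
    intro hbot
    have key : ∀ g ∈ J, orderOf g = r → ¬ Fixes g (zpowers m) := by
      rintro g hg hgr ⟨c, hc, hc1, hgc⟩
      have : g ∈ J1 := ⟨hg, mem_centralizer_zpowers_iff.mpr (commute_of_mem_zpowers
        (zpowers_eq_of_mem hf.hq hmq (hLe.orderOf_eq hc hc1) hc) hgc.symm).symm⟩
      exact ne_one_of_orderOf hf.hr hgr (mem_bot.mp (hbot ▸ this))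
    exact hne (hLe.mem_zpowers_of_no_fixes hf.hr hf.qr key (hmn (hJK ha)) (hmn (hJK hb)) ha hb hab har hbr)
  obtain ⟨A, t, hAJ, hJA, hA⟩ := exists_normal_elem (K := J1) inferInstance hne1
  obtain ⟨w, hw, hw1⟩ := hA.exists_ne_one
  have hcore : core t J1 ≠ ⊥ := fun h =>
    hw1 (mem_bot.mp (h ▸ le_core hAJ hA.isPGroup hJA hw))
  rcases d.primes_J hJ (hAJ hw).1 hA.prime (hA.orderOf_eq hw hw1) with rfl | rfl
  · exact d.false_cyclic_aux hcyc hmK hmq hmn hJK hJ hcore
  · exact d.swapRS.false_cyclic_aux hcyc hmK hmq hmn hJK (Set.pair_comm r t ▸ hJ) hcore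

/-- The one-module configuration does not exist. -/
theorem false (d : One p q r s V K) : False := by
  have hf := d.four
  have hne : K ≠ ⊥ := by
    intro h
    obtain ⟨a, ha, -, -, har, -⟩ := exists_pair_hall hf.swap12 d.hall (Or.inl rfl)
    exact ne_one_of_orderOf hf.hq har (mem_bot.mp (h ▸ ha))
  obtain ⟨L, t, hLK, hKL, hL⟩ := exists_normal_elem d.isSolvable hne
  obtain ⟨m, hm, hm1⟩ := hL.exists_ne_one
  by_cases hcyc : CyclicMinimal K
  · have hgen : ∀ x ∈ L, x ∈ zpowers m := fun x hx => by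
      by_cases hx1 : x = 1
      · rw [hx1]; exact one_mem _
      exact hcyc t L hL hLK hKL m hm x hx hm1 hx1
    have hKm : K ≤ normalizer (zpowers m : Set G) := fun g hg => mem_normalizer_of_conj_mem (by
      rintro _ ⟨i, rfl⟩
      dsimp only
      rw [← conj_zpow]
      exact zpow_mem (hgen _ ((mem_normalizer_iff.mp (hKL hg) m).mp hm)) i)
    rcases d.prime_order (hLK hm) hL.prime (hL.orderOf_eq hm hm1) with rfl | rfl | rfl
    · exact d.false_cyclic_at hcyc (hLK hm) (hL.orderOf_eq hm hm1) hKm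
    · exact d.swapQR.false_cyclic_at hcyc (hLK hm) (hL.orderOf_eq hm hm1) hKm
    · exact d.swapRS.swapQR.false_cyclic_at hcyc (hLK hm) (hL.orderOf_eq hm hm1) hKm
  · simp only [CyclicMinimal] at hcyc
    push Not at hcyc
    obtain ⟨t', L', hL', hL'K, hKL', a, ha, b, hb, ha1, hb1, hab⟩ := hcyc
    rcases d.prime_order (hL'K ha) hL'.prime (hL'.orderOf_eq ha ha1) with rfl | rfl | rfl
    · exact d.false_of_noncyclic hL' hL'K hKL' ha hb ha1 hb1 hab
    · exact d.swapQR.false_of_noncyclic hL' hL'K hKL' ha hb ha1 hb1 hab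
    · exact d.swapRS.swapQR.false_of_noncyclic hL' hL'K hKL' ha hb ha1 hb1 hab

end One

end Cfsg.Agent.FGS77.FourPrimes
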