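import Cfsg.Agent.FGS77.FourPrimes.CyclicCase

/-!
# Four primes pairwise but not triply joined: the group is not solvable
-/

set_option autoImplicit false

namespace Cfsg.Agent.FGS77.FourPrimes

open Subgroup

universe u

variable {G : Type u} [Group G] [Finite G]

theorem kernel_false {p q r s : ℕ} {V K : Subgroup G} (hf : Four G p q r s) (hV : Elem p V)
    (hKV : K ≤ normalizer (V : Set G)) (hK : Cfsg.IsPiHall ({q, r, s} : Set ℕ) K) {k : G} (hk : k ∈ K)
    (hkV : ∀ v ∈ V, Commute k v) (hkq : orderOf k = q) : False := by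
  haveI := hf.solv
  haveI : Fact q.Prime := ⟨hf.hq⟩
  set C := K ⊓ centralizer (V : Set G) with hC
  have hcC : ∀ {g : G}, g ∈ C → ∀ v ∈ V, Commute g v := fun hg v hv =>
    (mem_centralizer_iff.mp hg.2 v hv).symm
  have hkC : k ∈ C := ⟨hk, mem_centralizer_iff.mpr fun v hv => (hkV v hv).eq.symm⟩
  have hconj : ∀ {t : ℕ}, t.Prime → t ∈ ({q, r, s} : Set ℕ) → ∀ T : Subgroup G, IsPGroup t T →
      ∃ g : G, ∀ x ∈ T, g * x * g⁻¹ ∈ K := fun ht hπ T hT => hall_conj_mem hf.solv hK ht hπ T hT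
  have hCq : IsPGroup q C := isPGroup_of_orders hf.hq fun g hg t ht hgt => by
    have hmem : t ∈ ({q, r, s} : Set ℕ) := hK.1 t ht (dvd_card_of_mem hg.1 hgt)
    simp only [Set.mem_insert_iff, Set.mem_singleton_iff] at hmem
    rcases hmem with h | h | h
    · exact h
    · exfalso
      obtain ⟨z, -, hzs, v, hv, hv1, hzv⟩ := exists_fixer (swap24 hf).swap12 hV hf.ps hKV
        (hconj hf.hs (by simp))
      exact hf.no_three_in_centralizer (hV.orderOf_eq hv hv1) hkq (h ▸ hgt) hzs (hkV v hv).symm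
        (hcC hg v hv).symm hzv.symm
    · exfalso
      obtain ⟨z, -, hzr, v, hv, hv1, hzv⟩ := exists_fixer (swap13 hf) hV hf.pr hKV (hconj hf.hr (by simp))
      exact hf.no_three_in_centralizer (hV.orderOf_eq hv hv1) hkq hzr (h ▸ hgt) (hkV v hv).symm
        hzv.symm (hcC hg v hv).symm
  have hCne : C ≠ ⊥ := fun h => ne_one_of_orderOf hf.hq hkq (mem_bot.mp (h ▸ hkC))
  obtain ⟨J, hJK, hJ⟩ := exists_hall_le hf.solv (π := ({r, s} : Set ℕ)) (fun u hu => Or.inr hu) hK
  refine Two.false (p := p) (q := r) (r := q) (s := s) (V := V) (W := Recog71.omegaCenter C q) (K := J)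
    ⟨hf.swap23, hV, elem_omega hf.hq hCq hCne, fun v hv w hw => (hcC (omega_le hw) v hv).symm,
      hJK.trans hKV, fun g hg => ?_, hJ⟩
  exact normalizer_le_omega C q
    (le_normalizer_inf' g (le_normalizer (hJK hg)) (mem_normalizer_centralizer (hKV (hJK hg))))

theorem false_of_module {p q r s : ℕ} (hf : Four G p q r s) {V₀ : Subgroup G} (hV₀ : Elem p V₀)
    (hn : V₀.Normal) : False := by
  haveI := hf.solv
  obtain ⟨K, hK⟩ := Solvable.exists_isPiHall (G := G) ({q, r, s} : Set ℕ)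
  let S : Set (Subgroup G) := {V | V ≤ V₀ ∧ V ≠ ⊥ ∧ K ≤ normalizer (V : Set G)}
  obtain ⟨V, hVmin⟩ := (Set.toFinite S).exists_minimal
    ⟨V₀, le_rfl, hV₀.ne_bot, le_top.trans (normalizer_eq_top V₀).ge⟩
  obtain ⟨hVle, hVne, hKV⟩ := hVmin.1
  have hV : Elem p V := ⟨hV₀.prime, hVne, fun a ha b hb => hV₀.comm a (hVle ha) b (hVle hb),
    fun v hv => hV₀.exp v (hVle hv)⟩
  by_cases hfaith : ∀ y ∈ K, (∀ v ∈ V, Commute y v) → y = 1
  · refine One.false (V := V) (K := K) ⟨hf, hV, hKV, hK, hfaith, fun L hLK hKL hL v hv hc => ?_⟩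
    by_contra hv1
    have hmem : V ⊓ centralizer (L : Set G) ∈ S := ⟨inf_le_left.trans hVle,
      fun h => hv1 (mem_bot.mp (h ▸ (⟨hv, mem_centralizer_iff.mpr fun l hl => (hc l hl).eq⟩ :
        v ∈ V ⊓ centralizer (L : Set G)))),
      fun g hg => le_normalizer_inf' g (hKV hg) (mem_normalizer_centralizer (hKL hg))⟩
    have hVL : V ≤ V ⊓ centralizer (L : Set G) := hVmin.2 hmem inf_le_left
    refine hL ((Subgroup.eq_bot_iff_forall L).mpr fun l hl => hfaith l (hLK hl) fun w hw => ?_)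
    exact mem_centralizer_iff.mp (hVL hw).2 l hl
  push Not at hfaith
  obtain ⟨y, hy, hyc, hy1⟩ := hfaith
  obtain ⟨t, ht, htd⟩ := Nat.exists_prime_and_dvd
    (show orderOf y ≠ 1 from fun h => hy1 (orderOf_eq_one_iff.mp h))
  have hyt := orderOf_pow_orderOf_div (orderOf_pos y).ne' htd
  have hpow : ∀ v ∈ V, Commute (y ^ (orderOf y / t)) v := fun v hv => (hyc v hv).pow_left _
  have hmem : t ∈ ({q, r, s} : Set ℕ) := hK.1 t ht (dvd_card_of_mem (pow_mem hy _) hyt)
  simp only [Set.mem_insert_iff, Set.mem_singleton_iff] at hmem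
  rcases hmem with rfl | rfl | rfl
  · exact kernel_false hf hV hKV hK (pow_mem hy _) hpow hyt
  · exact kernel_false hf.swap23 hV hKV (Set.insert_comm q t {s} ▸ hK) (pow_mem hy _) hpow hyt
  · refine kernel_false hf.swap34.swap23 hV hKV ?_ (pow_mem hy _) hpow hyt
    rwa [show ({t, q, r} : Set ℕ) = {q, r, t} by rw [Set.insert_comm, Set.pair_comm t r]]

theorem no_four : ∀ (n : ℕ) {G : Type u} [Group G] [Finite G], Nat.card G ≤ n →
    ∀ {p q r s : ℕ}, Four G p q r s → False := by
  intro n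
  induction n with
  | zero => intro G _ _ h; exact absurd h (Nat.not_le.mpr Nat.card_pos)
  | succ n ih =>
    intro G _ _ hcard p q r s hf
    haveI := hf.solv
    haveI : Nontrivial G := by
      obtain ⟨g, hg⟩ := hf.edge p (by simp) q (by simp) hf.pq
      refine ⟨g, 1, fun h => ?_⟩
      rw [h, orderOf_one] at hg
      exact hf.hp.ne_one (Nat.eq_one_of_mul_eq_one_right hg.symm)
    obtain ⟨N, t, hN, hN1, -, ht, hNp, hNc, hNexp, -⟩ := Solvable.exists_minimal_normal_elementary G
    have hNe : Elem t N := ⟨ht, hN1,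
      fun a ha b hb => congrArg Subtype.val (hNc.is_comm.comm (⟨a, ha⟩ : N) ⟨b, hb⟩), hNexp⟩
    by_cases hmem : t ∈ ({p, q, r, s} : Finset ℕ)
    · simp only [Finset.mem_insert, Finset.mem_singleton] at hmem
      rcases hmem with rfl | rfl | rfl | rfl
      · exact false_of_module hf hNe hN
      · exact false_of_module hf.swap12 hNe hN
      · exact false_of_module (swap13 hf) hNe hN
      · exact false_of_module (swap24 hf).swap12 hNe hN
    haveI := hN
    have hlt : Nat.card (G ⧸ N) ≤ n := by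
      have h1 := card_eq_card_quotient_mul_card_subgroup N
      have h2 : 2 ≤ Nat.card N := (one_lt_card_iff_ne_bot _).mpr hN1
      have h3 := Nat.mul_le_mul_left (Nat.card (G ⧸ N)) h2
      have h4 : 0 < Nat.card (G ⧸ N) := Nat.card_pos
      omega
    refine ih hlt (p := p) (q := q) (r := r) (s := s) ⟨?_, hf.hp, hf.hq, hf.hr, hf.hs, hf.pq, hf.pr, hf.ps,
      hf.qr, hf.qs, hf.rs, ?_, ?_⟩
    · exact Group.isSolvable_of_surjective (QuotientGroup.mk'_surjective N)
    · intro a ha b hb hab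
      have hprime : ∀ c ∈ ({p, q, r, s} : Finset ℕ), c.Prime ∧ c ≠ t := by
        intro c hc
        refine ⟨?_, fun h => hmem (h ▸ hc)⟩
        simp only [Finset.mem_insert, Finset.mem_singleton] at hc
        rcases hc with rfl | rfl | rfl | rfl
        exacts [hf.hp, hf.hq, hf.hr, hf.hs]
      obtain ⟨g, hg⟩ := hf.edge a ha b hb hab
      refine ⟨QuotientGroup.mk' N g, Nat.dvd_antisymm ((orderOf_map_dvd _ g).trans hg.dvd) ?_⟩
      set o := orderOf (QuotientGroup.mk' N g) with ho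
      have h1 : g ^ o ∈ N := by
        rw [← QuotientGroup.eq_one_iff]
        exact (map_pow (QuotientGroup.mk' N) g o).trans (pow_orderOf_eq_one _)
      have h2 : g ^ (o * t) = 1 := by rw [pow_mul]; exact hNexp _ h1
      have h3 : a * b ∣ o * t := hg ▸ orderOf_dvd_of_pow_eq_one h2
      exact (Nat.Coprime.mul_left ((Nat.coprime_primes (hprime a ha).1 ht).mpr (hprime a ha).2)
        ((Nat.coprime_primes (hprime b hb).1 ht).mpr (hprime b hb).2)).dvd_of_dvd_mul_right h3
    · intro a ha b hb c hc hab hbc hac y hy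
      obtain ⟨x, hx⟩ := Recog71.exists_orderOf_of_hom_surjective (QuotientGroup.mk'_surjective N) y
      exact hf.triple a ha b hb c hc hab hbc hac x (hx.trans hy)

end Cfsg.Agent.FGS77.FourPrimes
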