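import Cfsg.Agent.FGS77.FourPrimes.Tools
import Cfsg.Agent.Lib.PGroup.NormalRankTwo

/-!
# Elementary modules and the two-module case of S3814
-/

set_option autoImplicit false

namespace Cfsg.Agent.FGS77.FourPrimes

open Subgroup

variable {G : Type*} [Group G] [Finite G]

/-- A nontrivial elementary abelian `ℓ`-subgroup. -/
structure Elem (ℓ : ℕ) (V : Subgroup G) : Prop where
  prime : ℓ.Prime
  ne_bot : V ≠ ⊥
  comm : ∀ a ∈ V, ∀ b ∈ V, Commute a b
  exp : ∀ v ∈ V, v ^ ℓ = 1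

namespace Elem

variable {ℓ : ℕ} {V : Subgroup G}

theorem orderOf_eq (hV : Elem ℓ V) {v : G} (hv : v ∈ V) (h1 : v ≠ 1) : orderOf v = ℓ :=
  orderOf_eq_of_pow hV.prime (hV.exp v hv) h1

theorem eq_of_dvd (hV : Elem ℓ V) {u : ℕ} (hu : u.Prime) (hd : u ∣ Nat.card V) : u = ℓ := by
  obtain ⟨g, hg, hgu⟩ := exists_orderOf_of_dvd hu hd
  exact (Nat.prime_dvd_prime_iff_eq hu hV.prime).mp (hgu ▸ orderOf_dvd_of_pow_eq_one (hV.exp g hg))

theorem not_dvd (hV : Elem ℓ V) {u : ℕ} (hu : u.Prime) (hne : u ≠ ℓ) : ¬ u ∣ Nat.card V :=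
  fun h => hne (hV.eq_of_dvd hu h)

theorem isPGroup (hV : Elem ℓ V) : IsPGroup ℓ V := fun v => ⟨1, by
  rw [pow_one]; exact Subtype.ext (hV.exp v v.2)⟩

theorem exists_ne_one (hV : Elem ℓ V) : ∃ v ∈ V, v ≠ 1 := by
  by_contra h
  push Not at h
  exact hV.ne_bot ((Subgroup.eq_bot_iff_forall V).mpr h)

theorem coprime (hV : Elem ℓ V) {U : Subgroup G} (hU : ∀ u : ℕ, u.Prime → u ∣ Nat.card U → u ≠ ℓ) :
    (Nat.card U).Coprime (Nat.card V) :=
  Nat.coprime_of_dvd fun u hu h1 h2 => hU u hu h1 (hV.eq_of_dvd hu h2)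

theorem inf (hV : Elem ℓ V) (H : Subgroup G) (hne : V ⊓ H ≠ ⊥) : Elem ℓ (V ⊓ H : Subgroup G) :=
  ⟨hV.prime, hne, fun a ha b hb => hV.comm a ha.1 b hb.1, fun v hv => hV.exp v hv.1⟩

theorem mem_zpowers_of_no_fixes (hV : Elem ℓ V) {H : Subgroup G} {t : ℕ} (ht : t.Prime) (hne : ℓ ≠ t)
    (hnf : ∀ y ∈ H, orderOf y = t → ¬ Fixes y V) {a b : G} (haV : a ∈ normalizer (V : Set G))
    (hbV : b ∈ normalizer (V : Set G)) (ha : a ∈ H) (hb : b ∈ H) (hab : Commute a b)
    (hat : orderOf a = t) (hbt : orderOf b = t) : b ∈ zpowers a :=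
  FourPrimes.mem_zpowers_of_no_fixes hV.comm hV.ne_bot hV.prime ht hne hV.exp hnf haV hbV ha hb hab hat hbt

end Elem

/-- The order-`t` part of the centre of a nontrivial `t`-group is elementary. -/
theorem elem_omega {P : Subgroup G} {t : ℕ} (ht : t.Prime) (hP : IsPGroup t P) (hne : P ≠ ⊥) :
    Elem t (Recog71.omegaCenter P t) := by
  haveI := Fact.mk ht
  refine ⟨ht, fun h => ?_, fun a ha b hb => ha.2.1 b hb.1, fun v hv => hv.2.2⟩
  obtain ⟨x, hx, hx1⟩ := Recog71.omegaCenter_ne_bot hP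
    (hP.card_eq_or_dvd.resolve_left fun h1 => hne (P.eq_bot_of_card_eq h1))
  rw [h, mem_bot] at hx
  exact hx1 hx

omit [Finite G] in
theorem omega_le {P : Subgroup G} {t : ℕ} : Recog71.omegaCenter P t ≤ P := fun _ h => h.1

theorem normalizer_le_omega (P : Subgroup G) (t : ℕ) :
    normalizer (P : Set G) ≤ normalizer (Recog71.omegaCenter P t : Set G) := fun _ hg =>
  mem_normalizer_of_conj_mem fun _ ha => Recog71.omegaCenter_conj hg ha

/-- A nontrivial solvable subgroup has a normal elementary abelian subgroup. -/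
theorem exists_normal_elem {K : Subgroup G} (hK : Group.IsSolvable K) (hne : K ≠ ⊥) :
    ∃ (L : Subgroup G) (t : ℕ), L ≤ K ∧ K ≤ normalizer (L : Set G) ∧ Elem t L := by
  haveI := hK
  haveI : Nontrivial K := (Subgroup.nontrivial_iff_ne_bot K).mpr hne
  obtain ⟨N, t, hN, hN1, -, ht, -, hNc, hNexp, -⟩ := Solvable.exists_minimal_normal_elementary K
  refine ⟨N.map K.subtype, t, map_subtype_le N, ?_, ht, ?_, ?_, ?_⟩
  · intro g hg
    refine mem_normalizer_of_conj_mem ?_
    rintro _ ⟨x, hx, rfl⟩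
    exact ⟨⟨g, hg⟩ * x * ⟨g, hg⟩⁻¹, hN.conj_mem x hx _, rfl⟩
  · rwa [Ne, Subgroup.map_eq_bot_iff_of_injective _ K.subtype_injective]
  · rintro _ ⟨x, hx, rfl⟩ _ ⟨y, hy, rfl⟩
    have := congrArg Subtype.val (hNc.is_comm.comm (⟨x, hx⟩ : N) ⟨y, hy⟩)
    exact congrArg (fun z : K => (z : G)) this
  · rintro _ ⟨x, hx, rfl⟩
    rw [← map_pow, hNexp x hx, map_one]

/-- An element of order `q` normalizing a group of order `q` centralizes it. -/
theorem commute_of_normalizes_prime {m y : G} {q : ℕ} (hq : q.Prime) (hm : orderOf m = q)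
    (hy : y ^ q = 1) (hn : y * m * y⁻¹ ∈ zpowers m) : Commute y m := by
  rw [← mem_powers_iff_mem_zpowers, Submonoid.mem_powers_iff] at hn
  obtain ⟨k, hk⟩ := hn
  by_contra hne
  have h := dvd_pred_of_conj hq hq hy hm hk.symm (fun h => hne (mul_inv_eq_iff_eq_mul.mp h))
  exact absurd (Nat.le_of_dvd (by have := hq.two_le; omega) h) (by have := hq.two_le; omega)

theorem swap24 {p q r s : ℕ} (h : Four G p q r s) : Four G p s r q := h.swap23.swap34.swap23

theorem swap13 {p q r s : ℕ} (h : Four G p q r s) : Four G r q p s := h.swap12.swap23.swap12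

/-- Each prime of the four has an element with fixed points on a module of another prime. -/
theorem exists_fixer {t b c d : ℕ} (h : Four G t b c d) {ℓ : ℕ} {V K : Subgroup G} (hV : Elem ℓ V)
    (hne : ℓ ≠ t) (hKV : K ≤ normalizer (V : Set G))
    (hK : ∀ T : Subgroup G, IsPGroup t T → ∃ g : G, ∀ x ∈ T, g * x * g⁻¹ ∈ K) :
    ∃ y ∈ K, orderOf y = t ∧ Fixes y V := by
  by_contra hcon
  push Not at hcon
  obtain ⟨a, ha, a', ha', hat, hat', hc, hne'⟩ := h.exists_pair_mem hK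
  exact hne' (hV.mem_zpowers_of_no_fixes h.hp hne hcon (hKV ha) (hKV ha') ha ha' hc hat hat')

section TwoModules

/-- Two commuting modules for a Hall `{q,s}`-subgroup. -/
structure Two (p q r s : ℕ) (V W K : Subgroup G) : Prop where
  four : Four G p q r s
  hV : Elem p V
  hW : Elem r W
  comm : ∀ v ∈ V, ∀ w ∈ W, Commute v w
  hKV : K ≤ normalizer (V : Set G)
  hKW : K ≤ normalizer (W : Set G)
  hall : Cfsg.IsPiHall ({q, s} : Set ℕ) K

namespace Two

variable {p q r s : ℕ} {V W K : Subgroup G}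

theorem symmVW (d : Two p q r s V W K) : Two r q p s W V K :=
  ⟨swap13 d.four, d.hW, d.hV, fun w hw v hv => (d.comm v hv w hw).symm, d.hKW, d.hKV, d.hall⟩

theorem symmQS (d : Two p q r s V W K) : Two p s r q V W K :=
  ⟨swap24 d.four, d.hV, d.hW, d.comm, d.hKV, d.hKW, Set.pair_comm q s ▸ d.hall⟩

theorem conj_q (d : Two p q r s V W K) (T : Subgroup G) (hT : IsPGroup q T) :
    ∃ g : G, ∀ x ∈ T, g * x * g⁻¹ ∈ K :=
  hall_conj_mem d.four.solv d.hall d.four.hq (by simp) T hT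

theorem prime_order (d : Two p q r s V W K) {y : G} (hy : y ∈ K) {u : ℕ} (hu : u.Prime)
    (hyu : orderOf y = u) : u = q ∨ u = s := by
  simpa using d.hall.1 u hu (dvd_card_of_mem hy hyu)

theorem fixer (d : Two p q r s V W K) : ∃ y ∈ K, orderOf y = q ∧ Fixes y V :=
  exists_fixer d.four.swap12 d.hV d.four.pq d.hKV d.conj_q

theorem not_both (d : Two p q r s V W K) {y : G} (hy : orderOf y = q) (h1 : Fixes y V)
    (h2 : Fixes y W) : False := by
  obtain ⟨v, hv, hv1, hcv⟩ := h1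
  obtain ⟨w, hw, hw1, hcw⟩ := h2
  exact d.four.nt_pqr (d.hV.orderOf_eq hv hv1) hy (d.hW.orderOf_eq hw hw1) hcv.symm hcw (d.comm v hv w hw)

theorem not_centralizes_of_order (d : Two p q r s V W K) {y : G} (hyq : orderOf y = q)
    (hc : ∀ v ∈ V, Commute y v) : False := by
  obtain ⟨z, -, hzs, v, hv, hv1, hzv⟩ := d.symmQS.fixer
  obtain ⟨w, hw, hw1⟩ := d.hW.exists_ne_one
  exact d.four.no_three_in_centralizer (d.hV.orderOf_eq hv hv1) hyq (d.hW.orderOf_eq hw hw1) hzs
    (hc v hv).symm (d.comm v hv w hw) hzv.symm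

theorem faithful (d : Two p q r s V W K) {y : G} (hy : y ∈ K) (hc : ∀ v ∈ V, Commute y v) : y = 1 := by
  by_contra hne
  obtain ⟨u, hu, hud⟩ := Nat.exists_prime_and_dvd (show orderOf y ≠ 1 from fun h => hne (orderOf_eq_one_iff.mp h))
  have hy' : orderOf (y ^ (orderOf y / u)) = u := by
    rw [orderOf_pow_orderOf_div (orderOf_pos y).ne' hud]
  have hc' : ∀ v ∈ V, Commute (y ^ (orderOf y / u)) v := fun v hv => (hc v hv).pow_left _
  rcases d.prime_order (pow_mem hy _) hu hy' with rfl | rfl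
  · exact d.not_centralizes_of_order hy' hc'
  · exact d.symmQS.not_centralizes_of_order hy' hc'

/-- An element of order `s` centralizes every abelian `q`-subgroup it normalizes. -/
theorem commute_abelian (d : Two p q r s V W K) {z : G} (hz : z ∈ K) (hzs : orderOf z = s)
    {A : Subgroup G} (hA : A ≤ K) (hAq : IsPGroup q A) (hAc : ∀ a ∈ A, ∀ b ∈ A, Commute a b)
    (hzA : z ∈ normalizer (A : Set G)) {a : G} (ha : a ∈ A) : Commute z a := by
  by_contra hne
  have hor : ∀ u : ℕ, u.Prime → u ∣ Nat.card A → u = q := fun u hu hd => by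
    obtain ⟨g, hg, hgu⟩ := exists_orderOf_of_dvd hu hd
    exact eq_of_isPGroup d.four.hq hAq hg hu hgu
  have hcK : z * a * z⁻¹ * a⁻¹ ∈ K := mul_mem (mul_mem (mul_mem hz (hA ha)) (inv_mem hz)) (inv_mem (hA ha))
  have hsA : ¬ s ∣ Nat.card A := fun h => d.four.qs (hor s d.four.hs h).symm
  have hfix : ∀ {ℓ : ℕ} {U : Subgroup G}, Elem ℓ U → ℓ ≠ q → K ≤ normalizer (U : Set G) →
      (∀ y ∈ K, (∀ v ∈ U, Commute y v) → y = 1) → Fixes z U := by
    intro ℓ U hU hℓ hKU hfaith
    by_contra hf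
    have := hfaith _ hcK (commutator_commute U A hU.comm hAc (hA.trans hKU) (hKU hz) hzA d.four.hs
      (pow_orderOf' hzs) hsA (hU.coprime fun u hu hd => (hor u hu hd).symm ▸ hℓ.symm) hf ha)
    exact hne (mul_inv_eq_iff_eq_mul.mp (mul_inv_eq_one.mp this))
  exact d.symmQS.not_both hzs (hfix d.hV d.four.pq d.hKV fun y hy => d.faithful hy)
    (hfix d.hW d.four.qr.symm d.hKW fun y hy => d.symmVW.faithful hy)

/-- A normal elementary abelian `q`-subgroup has order `q` and is fixed-point-free on both modules. -/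
theorem normal_elem (d : Two p q r s V W K) {M : Subgroup G} (hM : Elem q M) (hMK : M ≤ K)
    (hn : K ≤ normalizer (M : Set G)) :
    ∃ m ∈ M, orderOf m = q ∧ (∀ a ∈ M, a ∈ zpowers m) ∧ ¬ Fixes m V ∧ ¬ Fixes m W ∧
      ∀ y ∈ K, orderOf y = q → Commute y m := by
  have hcen : ∀ z ∈ K, orderOf z = s → ∀ a ∈ M, Commute z a := fun z hz hzs a ha =>
    d.commute_abelian hz hzs hMK hM.isPGroup hM.comm (hn hz) ha
  obtain ⟨z, hz, hzs, v, hv, hv1, hzv⟩ := d.symmQS.fixer
  set C := V ⊓ centralizer ({z} : Set G) with hC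
  have hvC : v ∈ C := ⟨hv, mem_centralizer_singleton_iff.mpr hzv.eq.symm⟩
  have hCe : Elem p C := d.hV.inf _ (fun h => hv1 (mem_bot.mp (h ▸ hvC)))
  have hnorm : ∀ a ∈ M, a ∈ normalizer (C : Set G) := fun a ha => mem_normalizer_of_conj_mem fun x hx =>
    ⟨(mem_normalizer_iff.mp (d.hKV (hMK ha)) x).mp hx.1, mem_centralizer_singleton_iff.mpr
      ((((hcen z hz hzs a ha).mul_right (mem_centralizer_singleton_iff.mp hx.2 : Commute x z).symm).mul_right
        (hcen z hz hzs a ha).inv_right).eq.symm)⟩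
  have hdep : ∀ a ∈ M, ∀ b ∈ M, a ≠ 1 → b ≠ 1 → b ∈ zpowers a := fun a ha b hb ha1 hb1 =>
    hCe.mem_zpowers_of_no_fixes d.four.hq d.four.pq (H := M) (fun y hy hyq ⟨w, hw, hw1, hyw⟩ =>
      d.four.nt_pqs (d.hV.orderOf_eq hw.1 hw1) hyq hzs hyw.symm (hcen z hz hzs y hy).symm
        (mem_centralizer_singleton_iff.mp hw.2)) (hnorm a ha) (hnorm b hb) ha hb (hM.comm a ha b hb)
      (hM.orderOf_eq ha ha1) (hM.orderOf_eq hb hb1)
  obtain ⟨m, hm, hm1⟩ := hM.exists_ne_one
  have hgen : ∀ a ∈ M, a ∈ zpowers m := fun a ha => by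
    by_cases ha1 : a = 1
    · rw [ha1]; exact one_mem _
    · exact hdep m hm a ha hm1 ha1
  have hmq := hM.orderOf_eq hm hm1
  refine ⟨m, hm, hmq, hgen, ?_, ?_, fun y hy hyq => ?_⟩
  rotate_left 2
  · exact commute_of_normalizes_prime d.four.hq hmq (pow_orderOf' hyq)
      (hgen _ ((mem_normalizer_iff.mp (hn hy) m).mp hm))
  all_goals intro hfix
  · exact fpf_aux d hmq hfix (fun z hz hzs => hcen z hz hzs m hm)
  · exact fpf_aux d.symmVW hmq hfix (fun z hz hzs => hcen z hz hzs m hm)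
where
  fpf_aux {p q r s : ℕ} {V W K : Subgroup G} (d : Two p q r s V W K) {m : G} (hmq : orderOf m = q)
      (hfix : Fixes m V) (hcen : ∀ z ∈ K, orderOf z = s → Commute z m) : False := by
    obtain ⟨a, ha, b, hb, has, hbs, hab, hne⟩ :=
      (d.four.swap34.swap23.swap12).exists_pair_mem d.symmQS.conj_q
    obtain ⟨v, hv, hv1, hmv⟩ := hfix
    set C := V ⊓ centralizer ({m} : Set G) with hC
    have hCe : Elem p C := d.hV.inf _ (fun h => hv1 (mem_bot.mp
      (h ▸ (⟨hv, mem_centralizer_singleton_iff.mpr hmv.eq.symm⟩ : v ∈ C))))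
    have hnorm : ∀ z ∈ K, orderOf z = s → z ∈ normalizer (C : Set G) := fun z hz hzs =>
      mem_normalizer_of_conj_mem fun x hx => ⟨(mem_normalizer_iff.mp (d.hKV hz) x).mp hx.1,
        mem_centralizer_singleton_iff.mpr (((((hcen z hz hzs).symm).mul_right
          (mem_centralizer_singleton_iff.mp hx.2 : Commute x m).symm).mul_right
          (hcen z hz hzs).symm.inv_right).eq.symm)⟩
    refine hne (hCe.mem_zpowers_of_no_fixes d.four.hs d.four.ps (H := K) (fun y hy hys ⟨w, hw, hw1, hyw⟩ =>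
      d.four.nt_pqs (d.hV.orderOf_eq hw.1 hw1) hmq hys
        (mem_centralizer_singleton_iff.mp hw.2) (hcen y hy hys).symm hyw.symm)
      (hnorm a ha has) (hnorm b hb hbs) ha hb hab has hbs)

/-- The prime `2` cannot carry a normal subgroup in the two-module case. -/
theorem false_of_two (d : Two p q r s V W K) (hq2 : q = 2) {M : Subgroup G} (hM : Elem q M)
    (hMK : M ≤ K) (hn : K ≤ normalizer (M : Set G)) : False := by
  obtain ⟨m, hm, hmq, -, hfV, hfW, hcen⟩ := d.normal_elem hM hMK hn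
  obtain ⟨a, ha, b, hb, haq, hbq, hab, hne⟩ := d.four.swap12.exists_pair_mem d.conj_q
  obtain ⟨u, hu, huq, hum⟩ : ∃ u ∈ K, orderOf u = q ∧ u ≠ m := by
    by_contra hcon
    push Not at hcon
    exact hne ((hcon b hb hbq).symm ▸ (hcon a ha haq) ▸ mem_zpowers a)
  have key : ∀ {ℓ : ℕ} {U : Subgroup G}, Elem ℓ U → K ≤ normalizer (U : Set G) → ¬ Fixes m U →
      (∀ y ∈ K, (∀ v ∈ U, Commute y v) → y = 1) → Fixes u U := by
    intro ℓ U hU hKU hmU hfaith
    by_contra huU
    have inv : ∀ g : G, g ∈ K → g ^ 2 = 1 → ¬ Fixes g U → ∀ v ∈ U, g * v * g⁻¹ = v⁻¹ := by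
      intro g hg hg2 hgU v hv
      have hv' : g * v * g⁻¹ ∈ U := (mem_normalizer_iff.mp (hKU hg) v).mp hv
      have hgg : g * g = 1 := by rw [← pow_two]; exact hg2
      have h1 : Commute g (v * (g * v * g⁻¹)) := by
        refine mul_inv_eq_iff_eq_mul.mp ?_
        calc g * (v * (g * v * g⁻¹)) * g⁻¹ = (g * v * g⁻¹) * ((g * g) * v * (g * g)⁻¹) := by group
          _ = (g * v * g⁻¹) * v := by rw [hgg]; group
          _ = v * (g * v * g⁻¹) := (hU.comm _ hv' v hv).eq
      exact eq_inv_of_mul_eq_one_right (eq_one_of_not_fixes hgU (mul_mem hv hv') h1)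
    have hu2 : u ^ 2 = 1 := pow_orderOf' (hq2 ▸ huq)
    have hm2 : m ^ 2 = 1 := pow_orderOf' (hq2 ▸ hmq)
    have hone := hfaith (u * m) (mul_mem hu (hMK hm)) fun v hv => by
      refine mul_inv_eq_iff_eq_mul.mp ?_
      calc u * m * v * (u * m)⁻¹ = u * (m * v * m⁻¹) * u⁻¹ := by group
        _ = u * v⁻¹ * u⁻¹ := by rw [inv m (hMK hm) hm2 hmU v hv]
        _ = (u * v * u⁻¹)⁻¹ := by group
        _ = v := by rw [inv u hu hu2 huU v hv, inv_inv]
    refine hum ?_
    rw [mul_eq_one_iff_eq_inv] at hone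
    rw [hone]
    exact inv_eq_of_mul_eq_one_right (by rw [← pow_two]; exact hm2)
  exact d.not_both huq (key d.hV d.hKV hfV fun y hy => d.faithful hy)
    (key d.hW d.hKW hfW fun y hy => d.symmVW.faithful hy)

/-- For odd `q` the core `O_q(K)` is cyclic. -/
theorem core_isCyclic (d : Two p q r s V W K) (hq2 : q ≠ 2) : IsCyclic (core q K) := by
  haveI := Fact.mk d.four.hq
  by_contra hnc
  set T := core q K with hT
  have hTne : T ≠ ⊥ := fun h => hnc (by rw [h]; infer_instance)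
  set M := Recog71.omegaCenter T q
  have hM : Elem q M := elem_omega d.four.hq (core_isPGroup q K) hTne
  have hMK : M ≤ K := omega_le.trans (core_le q K)
  obtain ⟨m, hm, hmq, hgen, hfV, hfW, -⟩ := d.normal_elem hM hMK
    ((le_normalizer_core q K).trans (normalizer_le_omega T q))
  obtain ⟨B, hBn, hBc, hBexp, hBcard⟩ := PGroup.exists_normal_elementary_sq (core_isPGroup q K) hq2 hnc
  haveI : Group.IsNilpotent T := (core_isPGroup q K).isNilpotent
  have hBne : B ≠ ⊥ := fun h => by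
    rw [h, Subgroup.card_bot] at hBcard
    exact absurd (Nat.pow_eq_one.mp hBcard.symm) (by simp [d.four.hq.ne_one])
  obtain ⟨c, hcB, hc1⟩ : ∃ c ∈ B ⊓ center T, c ≠ 1 := by
    by_contra hcon
    push Not at hcon
    exact Fitting.inf_center_ne_bot hBne ((Subgroup.eq_bot_iff_forall _).mpr hcon)
  have hcM : (c : G) ∈ M := ⟨c.2, fun y hy =>
    (congrArg Subtype.val (mem_center_iff.mp hcB.2 ⟨y, hy⟩)).symm,
    congrArg Subtype.val (hBexp c hcB.1)⟩
  have hcgen : zpowers (c : G) = zpowers m := eq_of_le_of_card_ge (zpowers_le.mpr (hgen _ hcM)) (by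
    rw [Nat.card_zpowers, Nat.card_zpowers, hmq,
      hM.orderOf_eq hcM fun h => hc1 (Subtype.ext h)])
  obtain ⟨u, huB, hum⟩ : ∃ u ∈ B, (u : G) ∉ zpowers m := by
    by_contra hcon
    push Not at hcon
    have : B.map T.subtype ≤ zpowers m := by rintro _ ⟨x, hx, rfl⟩; exact hcon x hx
    have h2 := Subgroup.card_dvd_of_le this
    rw [Nat.card_congr (B.equivMapOfInjective _ T.subtype_injective).symm.toEquiv, hBcard,
      Nat.card_zpowers, hmq] at h2
    exact absurd (Nat.le_of_dvd d.four.hq.pos h2) (by have := d.four.hq.two_le; nlinarith)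
  have huT : (u : G) ∈ T := u.2
  obtain ⟨t, ht, htu⟩ : ∃ t ∈ T, ¬ Commute t (u : G) := by
    by_contra hcon
    push Not at hcon
    exact hum (hgen _ ⟨huT, fun y hy => (hcon y hy).eq.symm, congrArg Subtype.val (hBexp u huB)⟩)
  set B' := B.map T.subtype with hB'
  have hBcard' : Nat.card B' = q * q := by
    rw [Nat.card_congr (B.equivMapOfInjective _ T.subtype_injective).symm.toEquiv, hBcard, pow_two]
  have hbcomm : ∀ x ∈ B', ∀ y ∈ B', Commute x y := by
    rintro _ ⟨x, hx, rfl⟩ _ ⟨y, hy, rfl⟩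
    exact congrArg (fun z : B => ((z : T) : G)) (hBc.is_comm.comm ⟨x, hx⟩ ⟨y, hy⟩)
  have hδB : t * u * t⁻¹ * (u : G)⁻¹ ∈ B' := by
    refine ⟨⟨t, ht⟩ * u * ⟨t, ht⟩⁻¹ * u⁻¹, mul_mem (hBn.conj_mem u huB _) (inv_mem huB), rfl⟩
  have hmB : m ∈ B' := by
    have : zpowers m ≤ B' := hcgen ▸ zpowers_le.mpr ⟨c, hcB.1, rfl⟩
    exact this (mem_zpowers m)
  have hδm : t * u * t⁻¹ * (u : G)⁻¹ ∈ zpowers m := by
    by_contra hδ
    set δ := t * u * t⁻¹ * (u : G)⁻¹
    -- otherwise `B / ⟨m⟩` would be moved by a `q`-element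
    obtain ⟨e, he⟩ := IsPGroup.iff_card.mp (core_isPGroup q K)
    have hsup : zpowers m ⊔ zpowers (u : G) = B' := by
      refine eq_of_le_of_card_ge (sup_le (zpowers_le.mpr hmB) (zpowers_le.mpr ⟨u, huB, rfl⟩)) ?_
      have hlt : zpowers m < zpowers m ⊔ zpowers (u : G) :=
        lt_of_le_of_ne le_sup_left fun h => hum (h ▸ mem_sup_right (mem_zpowers _))
      have hd : Nat.card (zpowers m ⊔ zpowers (u : G) : Subgroup G) ∣ q * q := hBcard' ▸
        Subgroup.card_dvd_of_le (sup_le (zpowers_le.mpr hmB) (zpowers_le.mpr ⟨u, huB, rfl⟩))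
      have hgt := Set.Finite.card_lt_card (Set.toFinite _) (SetLike.coe_ssubset_coe.mpr hlt)
      rw [← pow_two] at hd
      obtain ⟨i, hi, hi'⟩ := (Nat.dvd_prime_pow d.four.hq).mp hd
      simp only [SetLike.coe_sort_coe, Nat.card_zpowers, hmq, hi'] at hgt
      rw [hBcard', hi', ← pow_two]
      refine (Nat.pow_le_pow_iff_right d.four.hq.one_lt).mpr ?_
      by_contra hi2
      have : q ^ i ≤ q ^ 1 := Nat.pow_le_pow_right d.four.hq.pos (by omega)
      rw [pow_one] at this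
      omega
    have hdec : ∀ x ∈ B', ∃ a ∈ zpowers m, ∃ j : ℕ, x = a * (u : G) ^ j := by
      intro x hx
      rw [← hsup] at hx
      obtain ⟨a, ha, b, hb, rfl⟩ := Coprime.exists_mul_of_mem_sup (N := zpowers m) (H := zpowers (u : G))
        (zpowers_le.mpr (mem_normalizer_of_conj_mem fun y hy => by
          rw [show (u : G) * y = y * u from hbcomm _ ⟨u, huB, rfl⟩ y ((zpowers_le.mpr hmB) hy),
            mul_inv_cancel_right]; exact hy)) hx
      obtain ⟨j, rfl⟩ := (Submonoid.mem_powers_iff b _).mp (mem_powers_iff_mem_zpowers.mpr hb)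
      exact ⟨a, ha, j, rfl⟩
    obtain ⟨a, ha, j, haj⟩ := hdec _ hδB
    have hcm : ∀ x ∈ zpowers m, Commute t x := fun x hx => by
      obtain ⟨i, rfl⟩ := hx
      exact Commute.zpow_right ((hm : m ∈ M).2.1 t ht).symm i
    have hbu : ∀ x ∈ zpowers m, Commute (u : G) x := fun x hx =>
      hbcomm _ ⟨u, huB, rfl⟩ x ((zpowers_le.mpr hmB) hx)
    have hstep : t * u * t⁻¹ = a * (u : G) ^ (j + 1) := by
      rw [pow_succ, ← mul_assoc, ← haj]; simp [δ]
    have hiter : ∀ n : ℕ, ∃ a' ∈ zpowers m, t ^ n * u * (t ^ n)⁻¹ = a' * (u : G) ^ ((j + 1) ^ n) := by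
      intro n
      induction n with
      | zero => exact ⟨1, one_mem _, by simp⟩
      | succ n ih =>
        obtain ⟨a', ha', hn⟩ := ih
        refine ⟨a' * a ^ ((j + 1) ^ n), mul_mem ha' (pow_mem ha _), ?_⟩
        calc t ^ (n + 1) * u * (t ^ (n + 1))⁻¹ = t * (t ^ n * u * (t ^ n)⁻¹) * t⁻¹ := by
              rw [pow_succ']; group
          _ = (t * a' * t⁻¹) * (t * u * t⁻¹) ^ ((j + 1) ^ n) := by rw [hn, conj_pow]; group
          _ = a' * (a * (u : G) ^ (j + 1)) ^ ((j + 1) ^ n) := by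
            rw [(hcm a' ha').eq, mul_inv_cancel_right, hstep]
          _ = a' * a ^ ((j + 1) ^ n) * (u : G) ^ ((j + 1) ^ (n + 1)) := by
            rw [((hbu a ha).symm.pow_right _).mul_pow, ← pow_mul, ← pow_succ' , mul_assoc]
    have hte : t ^ (q ^ e) = 1 := by
      have := orderOf_dvd_natCard (⟨t, ht⟩ : T)
      rw [← Subgroup.orderOf_coe, he] at this
      exact orderOf_dvd_iff_pow_eq_one.mp this
    obtain ⟨a', ha', hfin⟩ := hiter (q ^ e)
    rw [hte, one_mul, inv_one, mul_one] at hfin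
    haveI := Fact.mk d.four.hq
    have hq1 : ((j + 1) ^ (q ^ e) : ZMod q) = (j + 1 : ZMod q) := ZMod.pow_card_pow _
    have huq : orderOf (u : G) = q := orderOf_eq_of_pow d.four.hq (congrArg Subtype.val (hBexp u huB))
      fun h => hum (by rw [h]; exact one_mem _)
    have hi : (u : G) ^ ((j + 1) ^ (q ^ e)) = (u : G) ^ (j + 1) := by
      rw [pow_eq_pow_iff_modEq, huq]
      exact (ZMod.natCast_eq_natCast_iff _ _ q).mp (by push_cast; exact hq1)
    rw [hi, pow_succ, ← mul_assoc, right_eq_mul] at hfin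
    refine hδ ?_
    have : (u : G) ^ j ∈ zpowers m := by
      rw [eq_inv_of_mul_eq_one_right hfin]
      exact inv_mem ha'
    rw [haj]
    exact mul_mem ha this
  set δ := t * u * t⁻¹ * (u : G)⁻¹ with hδdef
  have hδ1 : δ ≠ 1 := fun h => htu (mul_inv_eq_iff_eq_mul.mp (mul_inv_eq_one.mp h))
  have htm : ∀ x ∈ zpowers m, Commute t x := fun x hx => by
    obtain ⟨i, rfl⟩ := hx
    exact Commute.zpow_right ((hm : m ∈ M).2.1 t ht).symm i
  have hδo : zpowers δ = zpowers m := eq_of_le_of_card_ge (zpowers_le.mpr hδm) (by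
    rw [Nat.card_zpowers, Nat.card_zpowers, hmq]
    exact (orderOf_eq_of_pow d.four.hq (by
      obtain ⟨i, hi⟩ := hδm
      rw [← hi, ← zpow_natCast, ← zpow_mul, mul_comm, zpow_mul, zpow_natCast, pow_orderOf' hmq,
        one_zpow]) hδ1).ge)
  have huq : orderOf (u : G) = q := orderOf_eq_of_pow d.four.hq (congrArg Subtype.val (hBexp u huB))
    fun h => hum (by rw [h]; exact one_mem _)
  have hum' : Commute (u : G) m := hbcomm _ ⟨u, huB, rfl⟩ m hmB
  have key : ∀ {ℓ : ℕ} {U : Subgroup G}, Elem ℓ U → ℓ ≠ q → K ≤ normalizer (U : Set G) →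
      ¬ Fixes m U → Fixes (u : G) U := by
    intro ℓ U hU hℓ hKU hmU
    have htn : t ∈ normalizer (U : Set G) := hKU (core_le q K ht)
    rcases fixes_of_cover U hU.comm hU.ne_bot (hKU (core_le q K huT)) (hKU (hMK hm)) d.four.hq hum'
      (pow_orderOf' huq) (pow_orderOf' hmq) (hU.not_dvd d.four.hq hℓ.symm) with hf | ⟨i, -, w, hw, hw1, hc⟩
    · exact absurd hf hmU
    have hmi : m ^ i ∈ zpowers δ := hδo ▸ pow_mem (mem_zpowers m) i
    obtain ⟨n, hn⟩ := hmi
    -- conjugate by a power of `t`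
    have hiter : ∀ l : ℕ, t ^ l * u * (t ^ l)⁻¹ = δ ^ l * u := by
      intro l
      induction l with
      | zero => simp
      | succ l ih =>
        calc t ^ (l + 1) * u * (t ^ (l + 1))⁻¹ = t * (t ^ l * u * (t ^ l)⁻¹) * t⁻¹ := by
              rw [pow_succ']; group
          _ = t * δ ^ l * u * t⁻¹ := by rw [ih]; group
          _ = δ ^ l * (t * u * t⁻¹) := by rw [((htm δ hδm).pow_right l).eq]; group
          _ = δ ^ (l + 1) * u := by rw [pow_succ, mul_assoc, hδdef]; group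
    obtain ⟨l, hl⟩ := (Submonoid.mem_powers_iff _ _).mp
      (mem_powers_iff_mem_zpowers.mpr (zpow_mem (mem_zpowers δ) n))
    have hlm : δ ^ l = m ^ i := hl.trans hn
    refine ⟨(t ^ l)⁻¹ * w * t ^ l, ?_, fun h1 => hw1 ?_, ?_⟩
    · simpa using (mem_normalizer_iff.mp (inv_mem (pow_mem htn l)) w).mp hw
    · have : w = t ^ l * ((t ^ l)⁻¹ * w * t ^ l) * (t ^ l)⁻¹ := by group
      rw [this, h1, mul_one, mul_inv_cancel]
    · have h2 : Commute (t ^ l * u * (t ^ l)⁻¹) w := by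
        rw [hiter l, hlm, ← (hum'.pow_right i).eq]; exact hc
      have e : w = t ^ l * ((t ^ l)⁻¹ * w * t ^ l) * (t ^ l)⁻¹ := by group
      rw [e] at h2
      exact SemiconjBy.conj_iff.mp h2
  exact d.not_both huq (key d.hV d.four.pq d.hKV hfV) (key d.hW d.four.qr.symm d.hKW hfW)

theorem false_aux (d : Two p q r s V W K) (hq2 : q ≠ 2) (hs2 : core s K = ⊥ ∨ s ≠ 2)
    : False := by
  haveI := Fact.mk d.four.hs
  haveI : Group.IsSolvable G := d.four.solv
  obtain ⟨z, hz, hzs, hzf⟩ := d.symmQS.fixer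
  have hTcyc := d.core_isCyclic hq2
  have hTc : ∀ a ∈ core q K, ∀ b ∈ core q K, Commute a b := fun a ha b hb => by
    letI := hTcyc.commGroup
    exact congrArg Subtype.val (mul_comm (⟨a, ha⟩ : core q K) ⟨b, hb⟩)
  have hzT : ∀ x ∈ core q K, Commute z x := fun x hx =>
    d.commute_abelian hz hzs (core_le q K) (core_isPGroup q K) hTc (le_normalizer_core q K hz) hx
  have hScyc : IsCyclic (core s K) := by
    rcases hs2 with h | h
    · rw [h]; infer_instance
    · exact d.symmQS.core_isCyclic h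
  have hzS := mem_core_of_centralizes (K := K) inferInstance d.four.hq d.four.hs d.four.qs
    (fun u hu h1 h2 => by
      by_contra hne
      obtain ⟨x, hx, hx1⟩ := (elem_omega hu (core_isPGroup u K) hne).exists_ne_one
      rcases d.prime_order (core_le u K (omega_le hx)) hu
        ((elem_omega hu (core_isPGroup u K) hne).orderOf_eq hx hx1) with e | e
      exacts [h1 e, h2 e])
    hScyc hz (pow_orderOf' hzs) hzT
  have hSne : core s K ≠ ⊥ := fun h => ne_one_of_orderOf d.four.hs hzs (mem_bot.mp (h ▸ hzS))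
  set N := Recog71.omegaCenter (core s K) s
  have hzN : z ∈ N := ⟨hzS, fun y hy => by
    letI := hScyc.commGroup
    exact congrArg Subtype.val (mul_comm (⟨z, hzS⟩ : core s K) ⟨y, hy⟩), pow_orderOf' hzs⟩
  obtain ⟨n, hn, hns, hgen, hfV, -⟩ := d.symmQS.normal_elem (elem_omega d.four.hs (core_isPGroup s K) hSne)
    (omega_le.trans (core_le s K)) ((le_normalizer_core s K).trans (normalizer_le_omega _ s))
  obtain ⟨v, hv, hv1, hzv⟩ := hzf
  refine hfV ⟨v, hv, hv1, ?_⟩
  have hgen' : zpowers z = zpowers n := eq_of_le_of_card_ge (zpowers_le.mpr (hgen z hzN))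
    (by rw [Nat.card_zpowers, Nat.card_zpowers, hzs, hns])
  obtain ⟨i, hi⟩ := (hgen'.symm ▸ mem_zpowers n : n ∈ zpowers z)
  rw [← hi]
  exact hzv.zpow_left i

/-- The two-module configuration does not exist. -/
theorem false (d : Two p q r s V W K) : False := by
  by_cases h1 : core q K ≠ ⊥ ∧ q = 2
  · exact d.false_of_two h1.2 (elem_omega d.four.hq (core_isPGroup q K) h1.1)
      (omega_le.trans (core_le q K)) ((le_normalizer_core q K).trans (normalizer_le_omega _ q))
  by_cases h2 : core s K ≠ ⊥ ∧ s = 2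
  · exact d.symmQS.false_of_two h2.2 (elem_omega d.four.hs (core_isPGroup s K) h2.1)
      (omega_le.trans (core_le s K)) ((le_normalizer_core s K).trans (normalizer_le_omega _ s))
  by_cases hq2 : q = 2
  · exact d.symmQS.false_aux (fun hs => d.four.qs (hq2.trans hs.symm))
      (Or.inl (not_not.mp fun h => h1 ⟨h, hq2⟩))
  · refine d.false_aux hq2 ?_
    by_cases hs2 : s = 2
    · exact Or.inl (not_not.mp fun h => h2 ⟨h, hs2⟩)
    · exact Or.inr hs2

end Two

end TwoModules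

end Cfsg.Agent.FGS77.FourPrimes
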