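import Cfsg.Agent.FGS77.FourPrimes.OneModule

/-!
# S3814: a normal elementary subgroup of rank at least two
-/

set_option autoImplicit false

namespace Cfsg.Agent.FGS77.FourPrimes

open Subgroup

variable {G : Type*} [Group G] [Finite G]

omit [Finite G] in
theorem le_normalizer_inf' (g : G) {H H' : Subgroup G} (h : g ∈ normalizer (H : Set G))
    (h' : g ∈ normalizer (H' : Set G)) : g ∈ normalizer ((H ⊓ H' : Subgroup G) : Set G) := by
  rw [mem_normalizer_iff]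
  exact fun a => and_congr (mem_normalizer_iff.mp h a) (mem_normalizer_iff.mp h' a)

theorem mem_normalizer_centralizer {g : G} {L : Subgroup G} (hg : g ∈ normalizer (L : Set G)) :
    g ∈ normalizer ((centralizer (L : Set G)) : Set G) := by
  refine mem_normalizer_of_conj_mem fun c hc => mem_centralizer_iff.mpr fun l hl => ?_
  have hl' : g⁻¹ * l * g ∈ L := by
    simpa using (mem_normalizer_iff.mp (inv_mem hg) l).mp hl
  have h := mem_centralizer_iff.mp hc _ hl'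
  calc l * (g * c * g⁻¹) = g * ((g⁻¹ * l * g) * c) * g⁻¹ := by group
    _ = g * (c * (g⁻¹ * l * g)) * g⁻¹ := by rw [h]
    _ = g * c * g⁻¹ * l := by group

theorem zpowers_eq_of_mem {a b : G} {t : ℕ} (ht : t.Prime) (ha : orderOf a = t) (hb : orderOf b = t)
    (h : b ∈ zpowers a) : a ∈ zpowers b := by
  have : zpowers b = zpowers a :=
    eq_of_le_of_card_ge (zpowers_le.mpr h) (by rw [Nat.card_zpowers, Nat.card_zpowers, ha, hb])
  rw [this]
  exact mem_zpowers a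

theorem commute_of_mem_zpowers {a b c : G} (h : b ∈ zpowers a) (hc : Commute a c) : Commute b c := by
  obtain ⟨i, rfl⟩ := h
  exact hc.zpow_left i

/-- A power of order `t` of a nontrivial element of a `t`-group. -/
theorem exists_pow_orderOf {H : Subgroup G} {t : ℕ} (ht : t.Prime) (hp : IsPGroup t H) {w : G}
    (hw : w ∈ H) (h1 : w ≠ 1) : ∃ i : ℕ, orderOf (w ^ i) = t := by
  obtain ⟨u, hu, hud⟩ := Nat.exists_prime_and_dvd
    (show orderOf w ≠ 1 from fun h => h1 (orderOf_eq_one_iff.mp h))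
  have h2 := orderOf_pow_orderOf_div (orderOf_pos w).ne' hud
  exact ⟨_, h2.trans (eq_of_isPGroup ht hp (pow_mem hw _) hu h2)⟩

/-- A rank-one `t`-group: all elements of order `t` are powers of a central one. -/
theorem exists_omega_generator {P : Subgroup G} {t : ℕ} (ht : t.Prime) (hP : IsPGroup t P) (hne : P ≠ ⊥)
    (hdep : ∀ a ∈ P, ∀ b ∈ P, orderOf a = t → orderOf b = t → Commute a b → b ∈ zpowers a) :
    ∃ ρ ∈ P, orderOf ρ = t ∧ (∀ y ∈ P, Commute ρ y) ∧ ∀ a ∈ P, orderOf a = t → a ∈ zpowers ρ := by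
  obtain ⟨ρ, hρ, hρ1⟩ := (elem_omega ht hP hne).exists_ne_one
  have hρt := (elem_omega ht hP hne).orderOf_eq hρ hρ1
  exact ⟨ρ, hρ.1, hρt, fun y hy => hρ.2.1 y hy, fun a ha hat => hdep ρ hρ.1 a ha hρt hat (hρ.2.1 a ha)⟩

theorem exists_pair_hall {a b c e : ℕ} (h : Four G a b c e) {π : Set ℕ} {J : Subgroup G}
    (hJ : Cfsg.IsPiHall π J) (ha : a ∈ π) :
    ∃ x ∈ J, ∃ y ∈ J, orderOf x = a ∧ orderOf y = a ∧ Commute x y ∧ y ∉ zpowers x :=
  h.exists_pair_mem fun T hT => hall_conj_mem h.solv hJ h.hp ha T hT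

theorem exists_joined_mem {p q r s : ℕ} (h : Four G p q r s) {J : Subgroup G}
    (hJ : Cfsg.IsPiHall ({r, s} : Set ℕ) J) :
    ∃ x ∈ J, ∃ y ∈ J, orderOf x = r ∧ orderOf y = s ∧ Commute x y := by
  haveI := h.solv
  obtain ⟨g, hg⟩ := h.edge r (by simp) s (by simp) h.rs
  obtain ⟨c, hc⟩ := Solvable.le_conj_isPiHall hJ (zpowers g) (fun u hu hd => by
    rw [Nat.card_zpowers, hg] at hd
    rcases hu.dvd_mul.mp hd with e | e
    · exact Or.inl ((Nat.prime_dvd_prime_iff_eq hu h.hr).mp e)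
    · exact Or.inr ((Nat.prime_dvd_prime_iff_eq hu h.hs).mp e))
  obtain ⟨w, hw, hwg⟩ := hc (mem_zpowers g)
  have hwo : orderOf w = r * s := by
    rw [← hg, ← hwg]
    exact (orderOf_injective (MulDistribMulAction.toMonoidEnd (MulAut G) G (MulAut.conj c))
      (MulAut.conj c).injective w).symm
  refine ⟨w ^ s, pow_mem hw s, w ^ r, pow_mem hw r, ?_, ?_, (Commute.refl w).pow_pow s r⟩
  · rw [orderOf_pow' _ h.hs.ne_zero, hwo, Nat.gcd_eq_right (dvd_mul_left s r), Nat.mul_div_cancel _ h.hs.pos]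
  · rw [orderOf_pow' _ h.hr.ne_zero, hwo, Nat.gcd_eq_right (dvd_mul_right r s), Nat.mul_div_cancel_left _ h.hr.pos]

namespace One

variable {p q r s : ℕ} {V K L : Subgroup G}

theorem primes_J (d : One p q r s V K) {J : Subgroup G} (hJ : Cfsg.IsPiHall ({r, s} : Set ℕ) J)
    {y : G} (hy : y ∈ J) {u : ℕ} (hu : u.Prime) (hyu : orderOf y = u) : u = r ∨ u = s := by
  simpa using hJ.1 u hu (dvd_card_of_mem hy hyu)

theorem exists_hall_rs (d : One p q r s V K) :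
    ∃ J ≤ K, Cfsg.IsPiHall ({r, s} : Set ℕ) J :=
  exists_hall_le d.four.solv (fun u hu => Or.inr hu) d.hall

/-- If `L` has rank at least two, prime order elements centralizing it are fixed-point-free. -/
theorem fpf_of_centralizes (d : One p q r s V K) (hL : Elem q L) (hLK : L ≤ K) {a b : G} (ha : a ∈ L)
    (hb : b ∈ L) (ha1 : a ≠ 1) (hb1 : b ≠ 1) (hab : b ∉ zpowers a) {z : G} (hz : z ∈ K)
    (hzr : orderOf z = r) (hc : ∀ l ∈ L, Commute z l) : ¬ Fixes z V := by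
  rintro ⟨v, hv, hv1, hzv⟩
  have hCe : Elem p (V ⊓ centralizer ({z} : Set G) : Subgroup G) := d.hV.inf _ fun h => hv1 (mem_bot.mp
    (h ▸ (⟨hv, mem_centralizer_singleton_iff.mpr hzv.eq.symm⟩ : v ∈ V ⊓ centralizer ({z} : Set G))))
  have hn : ∀ g ∈ L, g ∈ normalizer ((V ⊓ centralizer ({z} : Set G) : Subgroup G) : Set G) :=
    fun g hg => mem_normalizer_of_conj_mem fun x hx =>
      ⟨(mem_normalizer_iff.mp (d.hKV (hLK hg)) x).mp hx.1, mem_centralizer_singleton_iff.mpr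
        ((((hc g hg).mul_right (mem_centralizer_singleton_iff.mp hx.2 : Commute x z).symm).mul_right
          (hc g hg).inv_right).eq.symm)⟩
  exact hab (hCe.mem_zpowers_of_no_fixes d.four.hq d.four.pq (H := L) (fun y hy hyq ⟨w, hw, hw1, hyw⟩ =>
    d.four.nt_pqr (d.hV.orderOf_eq hw.1 hw1) hyq hzr hyw.symm (hc y hy).symm
      (mem_centralizer_singleton_iff.mp hw.2)) (hn a ha) (hn b hb) ha hb (hL.comm a ha b hb)
    (hL.orderOf_eq ha ha1) (hL.orderOf_eq hb hb1))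

/-- With `x` of order `r` and `z` of order `s` centralizing `L`, no normal `r`-subgroup of the
centralizer is possible. -/
theorem false_of_elem_in_centralizer (d : One p q r s V K) (hL : Elem q L) (hLK : L ≤ K) {a b : G}
    (ha : a ∈ L) (hb : b ∈ L) (ha1 : a ≠ 1) (hb1 : b ≠ 1) (hab : b ∉ zpowers a) {A : Subgroup G}
    (hA : Elem r A) (hAK : A ≤ K) (hAL : ∀ x ∈ A, ∀ l ∈ L, Commute x l) {z : G} (hz : z ∈ K)
    (hzA : z ∈ normalizer (A : Set G)) (hzs : orderOf z = s) (hzL : ∀ l ∈ L, Commute z l) : False := by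
  obtain ⟨x, hx, hx1⟩ := hA.exists_ne_one
  have hzV := d.swapRS.fpf_of_centralizes hL hLK ha hb ha1 hb1 hab hz hzs hzL
  have h := d.faithful _ (mul_mem (mul_mem (mul_mem hz (hAK hx)) (inv_mem hz)) (inv_mem (hAK hx)))
    (commutator_commute V A d.hV.comm hA.comm (hAK.trans d.hKV) (d.hKV hz) hzA d.four.hs
      (pow_orderOf' hzs) (hA.not_dvd d.four.hs d.four.rs.symm)
      (d.hV.coprime fun u hu hd => (hA.eq_of_dvd hu hd).symm ▸ d.four.pr.symm) hzV hx)
  exact d.four.nt_qrs (hL.orderOf_eq ha ha1) (hA.orderOf_eq hx hx1) hzs (hAL x hx a ha).symm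
    (mul_inv_eq_iff_eq_mul.mp (mul_inv_eq_one.mp h) : Commute z x).symm (hzL a ha).symm

theorem not_centralizes_s (d : One p q r s V K) (hL : Elem q L) (hLK : L ≤ K)
    (hn : K ≤ normalizer (L : Set G)) {a b : G}
    (ha : a ∈ L) (hb : b ∈ L) (ha1 : a ≠ 1) (hb1 : b ≠ 1) (hab : b ∉ zpowers a) {x : G} (hx : x ∈ K)
    (hxr : orderOf x = r) (hxL : ∀ l ∈ L, Commute x l) {z : G} (hz : z ∈ K) (hzs : orderOf z = s)
    (hzL : ∀ l ∈ L, Commute z l) : False := by
  haveI := d.isSolvable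
  obtain ⟨J, hJK, hJ⟩ := d.exists_hall_rs
  set D := J ⊓ centralizer (L : Set G) with hD
  have hinto : ∀ {g : G} {t : ℕ}, g ∈ K → t ∈ ({r, s} : Set ℕ) → t.Prime → orderOf g = t →
      (∀ l ∈ L, Commute g l) → ∃ g' ∈ D, orderOf g' = t := by
    intro g t hg htπ ht hgt hgL
    obtain ⟨k, hk, hkg⟩ := hall_conj_elt d.isSolvable hJK hJ hg (fun u hu hd => by
      rw [hgt] at hd
      exact (Nat.prime_dvd_prime_iff_eq hu ht).mp hd ▸ htπ)
    exact ⟨k * g * k⁻¹, ⟨hkg, (mem_normalizer_iff.mp (mem_normalizer_centralizer (hn hk)) g).mp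
      (mem_centralizer_iff.mpr fun l hl => (hgL l hl).eq.symm)⟩, by rw [orderOf_conj, hgt]⟩
  obtain ⟨x', hx', hx'r⟩ := hinto hx (Or.inl rfl) d.four.hr hxr hxL
  obtain ⟨z', hz', hz's⟩ := hinto hz (Or.inr rfl) d.four.hs hzs hzL
  have hDne : D ≠ ⊥ := fun h => ne_one_of_orderOf d.four.hr hx'r (mem_bot.mp (h ▸ hx'))
  have hDK : D ≤ K := inf_le_left.trans hJK
  haveI : Group.IsSolvable G := d.four.solv
  obtain ⟨A, t, hAD, hDA, hA⟩ := exists_normal_elem (K := D) inferInstance hDne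
  have hAL : ∀ y ∈ A, ∀ l ∈ L, Commute y l := fun y hy l hl =>
    (mem_centralizer_iff.mp (hAD hy).2 l hl).symm
  have hcD : ∀ {y : G}, y ∈ D → ∀ l ∈ L, Commute y l := fun hy l hl =>
    (mem_centralizer_iff.mp hy.2 l hl).symm
  obtain ⟨w, hw, hw1⟩ := hA.exists_ne_one
  rcases d.primes_J hJ (hAD hw).1 hA.prime (hA.orderOf_eq hw hw1) with rfl | rfl
  · exact d.false_of_elem_in_centralizer hL hLK ha hb ha1 hb1 hab hA (hAD.trans hDK) hAL (hDK hz')
      (hDA hz') hz's (hcD hz')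
  · exact d.swapRS.false_of_elem_in_centralizer hL hLK ha hb ha1 hb1 hab hA (hAD.trans hDK) hAL (hDK hx')
      (hDA hx') hx'r (hcD hx')

theorem false_noncyclic_aux (d : One p q r s V K) (hL : Elem q L) (hLK : L ≤ K)
    (hn : K ≤ normalizer (L : Set G)) {a b : G}
    (ha : a ∈ L) (hb : b ∈ L) (ha1 : a ≠ 1) (hb1 : b ≠ 1) (hab : b ∉ zpowers a)
    {J : Subgroup G} (hJK : J ≤ K) (hJ : Cfsg.IsPiHall ({r, s} : Set ℕ) J) {x : G} (hx : x ∈ J)
    (hxr : orderOf x = r) (hxL : ∀ l ∈ L, Commute x l) : False := by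
  have hf := d.four
  haveI : Group.IsSolvable G := hf.solv
  haveI := Fact.mk hf.hr
  haveI := Fact.mk hf.hs
  have hns : ∀ {z : G}, z ∈ K → orderOf z = s → ¬ ∀ l ∈ L, Commute z l := fun hz hzs hzL =>
    d.not_centralizes_s hL hLK hn ha hb ha1 hb1 hab (hJK hx) hxr hxL hz hzs hzL
  set D := J ⊓ centralizer (L : Set G) with hD
  have hxD : x ∈ D := ⟨hx, mem_centralizer_iff.mpr fun l hl => (hxL l hl).eq.symm⟩
  have hDne : D ≠ ⊥ := fun h => ne_one_of_orderOf hf.hr hxr (mem_bot.mp (h ▸ hxD))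
  have hcD : ∀ {y : G}, y ∈ D → ∀ l ∈ L, Commute y l := fun hy l hl =>
    (mem_centralizer_iff.mp hy.2 l hl).symm
  have hDp : IsPGroup r D := isPGroup_of_orders hf.hr fun g hg u hu hgu => by
    rcases d.primes_J hJ hg.1 hu hgu with h | h
    · exact h
    · exact absurd (hcD hg) (hns (hJK hg.1) (h ▸ hgu))
  have hDdep : ∀ g ∈ D, ∀ g' ∈ D, orderOf g = r → orderOf g' = r → Commute g g' → g' ∈ zpowers g :=
    fun g hg g' hg' hgr hg'r hc => d.hV.mem_zpowers_of_no_fixes hf.hr hf.pr (H := D)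
      (fun y hy hyr => d.fpf_of_centralizes hL hLK ha hb ha1 hb1 hab (hJK hy.1) hyr (hcD hy))
      (d.hKV (hJK hg.1)) (d.hKV (hJK hg'.1)) hg hg' hc hgr hg'r
  obtain ⟨ρ, hρD, hρr, -, hgen⟩ := exists_omega_generator hf.hr hDp hDne hDdep
  have hJρ : ∀ g ∈ J, g ∈ normalizer (zpowers ρ : Set G) := fun g hg => mem_normalizer_of_conj_mem (by
    rintro _ ⟨i, rfl⟩
    dsimp only
    rw [← conj_zpow]
    exact zpow_mem (hgen _ ((mem_normalizer_iff.mp (le_normalizer_inf' g (le_normalizer hg)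
      (mem_normalizer_centralizer (hn (hJK hg)))) ρ).mp hρD) (by rw [orderOf_conj, hρr])) i)
  obtain ⟨u₁, hu₁, u₂, hu₂, hu₁r, hu₂r, hu₁₂, hu₂ne⟩ := exists_pair_hall (swap13 hf) hJ (Or.inl rfl)
  obtain ⟨u, huJ, hur, huD⟩ : ∃ u ∈ J, orderOf u = r ∧ u ∉ D := by
    by_contra hcon
    push Not at hcon
    exact hu₂ne (hDdep u₁ (hcon u₁ hu₁ hu₁r) u₂ (hcon u₂ hu₂ hu₂r) hu₁r hu₂r hu₁₂)
  have huρ : Commute u ρ := commute_of_normalizes_prime hf.hr hρr (pow_orderOf' hur)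
    ((mem_normalizer_iff.mp (hJρ u huJ) ρ).mp (mem_zpowers ρ))
  set J1 := J ⊓ centralizer (zpowers ρ : Set G) with hJ1
  have hJ1c : ∀ {y : G}, y ∈ J1 → Commute y ρ := fun hy =>
    (mem_centralizer_iff.mp hy.2 ρ (mem_zpowers ρ)).symm
  have hmemJ1 : ∀ {y : G}, y ∈ J → Commute y ρ → y ∈ J1 := fun hy hc =>
    ⟨hy, mem_centralizer_iff.mpr fun g hg => (commute_of_mem_zpowers hg hc.symm).eq⟩
  have hJJ1 : J ≤ normalizer (J1 : Set G) := fun g hg =>
    le_normalizer_inf' g (le_normalizer hg) (mem_normalizer_centralizer (hJρ g hg))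
  have hdep1 : ∀ g ∈ J1, ∀ g' ∈ J1, orderOf g = s → orderOf g' = s → Commute g g' → g' ∈ zpowers g := by
    intro g hg g' hg' hgs hg's hc
    obtain ⟨l, hl, hl1⟩ := hL.exists_ne_one
    exact hL.mem_zpowers_of_no_fixes hf.hs hf.qs (H := J1) (fun y hy hys ⟨w, hw, hw1, hyw⟩ =>
      hf.nt_qrs (hL.orderOf_eq hw hw1) hρr hys (hcD hρD w hw).symm (hJ1c hy).symm hyw.symm)
      (hn (hJK hg.1)) (hn (hJK hg'.1)) hg hg' hc hgs hg's
  set R := core r J1 with hR
  have hJR : J ≤ normalizer (R : Set G) := hJJ1.trans (core_normalizer r J1)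
  have hRp := core_isPGroup r J1
  have hρR : ρ ∈ R := le_core (X := zpowers ρ) (zpowers_le.mpr (hmemJ1 hρD.1 (Commute.refl ρ)))
    (IsPGroup.of_card (n := 1) (by rw [Nat.card_zpowers, hρr, pow_one]))
    (fun g hg => hJρ g hg.1) (mem_zpowers ρ)
  obtain ⟨e₁, he₁, e₂, he₂, he₁s, he₂s, he₁₂, hene⟩ := exists_pair_hall
    (swap24 hf).swap12 hJ (Or.inr rfl)
  have hscop : ¬ s ∣ Nat.card R := fun h => by
    obtain ⟨g, hg, hgs⟩ := exists_orderOf_of_dvd hf.hs h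
    exact hf.rs (eq_of_isPGroup hf.hr hRp hg hf.hs hgs).symm
  have hline : ∀ g ∈ J, orderOf g = s → ∀ w ∈ R, w ≠ 1 → Commute g w → g ∈ J1 := by
    intro g hg hgs w hw hw1 hgw
    obtain ⟨i, hi⟩ := exists_pow_orderOf hf.hr hRp hw hw1
    have hwJ : w ^ i ∈ J := (core_le r J1 (pow_mem hw i)).1
    by_cases hwD : w ^ i ∈ D
    · refine hmemJ1 hg (commute_of_mem_zpowers (zpowers_eq_of_mem hf.hr hρr hi (hgen _ hwD hi))
        (hgw.pow_right i).symm).symm
    · exfalso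
      rcases d.pair hL hLK hn (hJK hwJ) (hJK hg) hi hgs (hgw.pow_right i).symm with h | h
      · exact hwD ⟨hwJ, mem_centralizer_iff.mpr fun l hl => (h l hl).eq.symm⟩
      · exact hns (hJK hg) hgs h
  have hmulJ : ∀ i : ℕ, e₁ * e₂ ^ i ∈ J := fun i => mul_mem he₁ (pow_mem he₂ i)
  have hmulo := orderOf_mul_pow hf.hs he₁₂ he₁s he₂s hene
  obtain ⟨g₁, hg₁J1, hg₁s, hg₁c⟩ : ∃ g ∈ J1, orderOf g = s ∧ Commute g e₁ ∧ Commute g e₂ := by
    by_contra hcon
    push Not at hcon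
    have : R ≤ ⊥ := le_of_lines hf.hs he₁₂ he₁s he₂s hene (hJR he₁) (hJR he₂) hscop
      (fun w hw hc => by
        by_contra hw1
        exact hcon e₂ (hline e₂ he₂ he₂s w hw (fun h => hw1 (mem_bot.mpr h)) hc) he₂s he₁₂.symm (Commute.refl _))
      (fun i w hw hc => by
        by_contra hw1
        exact hcon _ (hline _ (hmulJ i) (hmulo i) w hw (fun h => hw1 (mem_bot.mpr h)) hc) (hmulo i)
          ((Commute.refl e₁).mul_left (he₁₂.symm.pow_left i)) (he₁₂.mul_left ((Commute.refl e₂).pow_left i)))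
    exact ne_one_of_orderOf hf.hr hρr (mem_bot.mp (this hρR))
  have hRg : R ≤ centralizer ({g₁} : Set G) := by
    have key : ∀ g ∈ J, orderOf g = s → Commute g₁ g → ∀ w ∈ R, Commute g w →
        w ∈ centralizer ({g₁} : Set G) := by
      intro g hg hgs hcg w hw hgw
      refine mem_centralizer_singleton_iff.mpr ?_
      by_cases hw1 : w = 1
      · simp [hw1]
      exact (commute_of_mem_zpowers (zpowers_eq_of_mem hf.hs hg₁s hgs
        (hdep1 g₁ hg₁J1 g (hline g hg hgs w hw hw1 hgw) hg₁s hgs hcg)) hgw).eq.symm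
    exact le_of_lines hf.hs he₁₂ he₁s he₂s hene (hJR he₁) (hJR he₂) hscop
      (key e₂ he₂ he₂s hg₁c.2)
      (fun i => key _ (hmulJ i) (hmulo i) (hg₁c.1.mul_right (hg₁c.2.pow_right i)))
  have hRz : ∀ z ∈ J1, orderOf z = s → ∀ w ∈ R, Commute z w := by
    intro z hz hzs w hw
    obtain ⟨h, hh, hzh⟩ := exists_conj_pow hf.hs hdep1 hg₁J1 hg₁s hz hzs
    refine commute_of_mem_zpowers hzh ?_
    have hw' : h⁻¹ * w * h ∈ R := by
      simpa using (mem_normalizer_iff.mp (inv_mem (hJR hh.1)) w).mp hw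
    have h1 : Commute g₁ (h⁻¹ * w * h) := (mem_centralizer_singleton_iff.mp (hRg hw')).symm
    have h2 := (SemiconjBy.conj_iff (b := h)).mpr h1
    rwa [show h * (h⁻¹ * w * h) * h⁻¹ = w by group] at h2
  have huR : u ∉ R := by
    intro hu
    rcases d.pair hL hLK hn (hJK huJ) (hJK hg₁J1.1) hur hg₁s
      (mem_centralizer_singleton_iff.mp (hRg hu)) with h | h
    · exact huD ⟨huJ, mem_centralizer_iff.mpr fun l hl => (h l hl).eq.symm⟩
    · exact hns (hJK hg₁J1.1) hg₁s h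
  haveI : Group.IsSolvable J1 := inferInstance
  obtain ⟨a₀, ha₀, ha₀s, hmod⟩ := exists_normal_mod_core (J := J1) inferInstance hf.hr hf.hs hf.rs
    (fun t ht hd => by
      obtain ⟨g, hg, hgt⟩ := exists_orderOf_of_dvd ht hd
      exact d.primes_J hJ hg.1 ht hgt)
    hdep1 (hmemJ1 huJ huρ) hur huR
  obtain ⟨k, hk⟩ := hmod u (hmemJ1 huJ huρ)
  have hconj : u * a₀ * u⁻¹ = a₀ ^ k := by
    set c := a₀ ^ k * (u * a₀ * u⁻¹)⁻¹ with hc'
    have h1 : Commute (u * a₀ * u⁻¹) c :=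
      hRz _ (mul_mem (mul_mem (hmemJ1 huJ huρ) ha₀) (inv_mem (hmemJ1 huJ huρ))) (by rw [orderOf_conj, ha₀s]) c hk
    have h2 : (c * (u * a₀ * u⁻¹)) ^ s = 1 := by
      rw [hc', inv_mul_cancel_right, ← pow_mul, mul_comm, pow_mul, pow_orderOf' ha₀s, one_pow]
    rw [h1.symm.mul_pow, conj_pow, pow_orderOf' ha₀s, mul_one, mul_inv_cancel, mul_one] at h2
    have h3 := eq_one_of_pow_eq_one_of_coprime hk h2 (hf.hs.coprime_iff_not_dvd.mpr hscop)
    exact (mul_inv_eq_one.mp h3).symm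
  have hrs1 : r ∣ s - 1 := by
    by_cases hc : u * a₀ * u⁻¹ = a₀
    · exfalso
      rcases d.pair hL hLK hn (hJK huJ) (hJK ha₀.1) hur ha₀s (mul_inv_eq_iff_eq_mul.mp hc) with h | h
      · exact huD ⟨huJ, mem_centralizer_iff.mpr fun l hl => (h l hl).eq.symm⟩
      · exact hns (hJK ha₀.1) ha₀s h
    · exact dvd_pred_of_conj hf.hr hf.hs (pow_orderOf' hur) ha₀s hconj hc
  have hsr1 : s ∣ r - 1 := by
    obtain ⟨e, he, hes, hec⟩ : ∃ e ∈ J, orderOf e = s ∧ ¬ Commute e ρ := by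
      by_contra hcon
      push Not at hcon
      exact hene (hdep1 e₁ (hmemJ1 he₁ (hcon e₁ he₁ he₁s)) e₂ (hmemJ1 he₂ (hcon e₂ he₂ he₂s))
        he₁s he₂s he₁₂)
    have hmem := (mem_normalizer_iff.mp (hJρ e he) ρ).mp (mem_zpowers ρ)
    rw [← mem_powers_iff_mem_zpowers, Submonoid.mem_powers_iff] at hmem
    obtain ⟨j, hj⟩ := hmem
    exact dvd_pred_of_conj hf.hs hf.hr (pow_orderOf' hes) hρr hj.symm
      (fun h => hec (mul_inv_eq_iff_eq_mul.mp h))
  have := hf.hs.two_le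
  have := hf.hr.two_le
  have h1 : r ≤ s - 1 := Nat.le_of_dvd (by omega) hrs1
  have h2 : s ≤ r - 1 := Nat.le_of_dvd (by omega) hsr1
  omega

/-- No normal elementary subgroup has rank two or more. -/
theorem false_of_noncyclic (d : One p q r s V K) (hL : Elem q L) (hLK : L ≤ K)
    (hn : K ≤ normalizer (L : Set G)) {a b : G}
    (ha : a ∈ L) (hb : b ∈ L) (ha1 : a ≠ 1) (hb1 : b ≠ 1) (hab : b ∉ zpowers a) : False := by
  obtain ⟨J, hJK, hJ⟩ := d.exists_hall_rs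
  obtain ⟨x, hx, y, hy, hxr, hys, hxy⟩ := exists_joined_mem d.four hJ
  rcases d.pair hL hLK hn (hJK hx) (hJK hy) hxr hys hxy with h | h
  · exact d.false_noncyclic_aux hL hLK hn ha hb ha1 hb1 hab hJK hJ hx hxr h
  · exact d.swapRS.false_noncyclic_aux hL hLK hn ha hb ha1 hb1 hab hJK
      (Set.pair_comm r s ▸ hJ) hy hys h

end One

end Cfsg.Agent.FGS77.FourPrimes
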