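import Cfsg.Agent.FGS77.FourPrimes.Modules

/-!
# The one-module case of S3814: the pairing lemma
-/

set_option autoImplicit false

namespace Cfsg.Agent.FGS77.FourPrimes

open Subgroup

variable {G : Type*} [Group G] [Finite G]

/-- A Hall `{q,r,s}`-subgroup acting faithfully and irreducibly on a `p`-module. -/
structure One (p q r s : ℕ) (V K : Subgroup G) : Prop where
  four : Four G p q r s
  hV : Elem p V
  hKV : K ≤ normalizer (V : Set G)
  hall : Cfsg.IsPiHall ({q, r, s} : Set ℕ) K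
  faithful : ∀ y ∈ K, (∀ v ∈ V, Commute y v) → y = 1
  cv : ∀ L : Subgroup G, L ≤ K → K ≤ normalizer (L : Set G) → L ≠ ⊥ →
    ∀ v ∈ V, (∀ l ∈ L, Commute l v) → v = 1

namespace One

variable {p q r s : ℕ} {V K : Subgroup G}

theorem swapQR (d : One p q r s V K) : One p r q s V K :=
  ⟨d.four.swap23, d.hV, d.hKV,
    (show ({r, q, s} : Set ℕ) = {q, r, s} from Set.insert_comm r q _) ▸ d.hall, d.faithful, d.cv⟩

theorem swapRS (d : One p q r s V K) : One p q s r V K :=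
  ⟨d.four.swap34, d.hV, d.hKV,
    (show ({q, s, r} : Set ℕ) = {q, r, s} by rw [Set.pair_comm s r]) ▸ d.hall, d.faithful, d.cv⟩

theorem prime_order (d : One p q r s V K) {y : G} (hy : y ∈ K) {u : ℕ} (hu : u.Prime)
    (hyu : orderOf y = u) : u = q ∨ u = r ∨ u = s := by
  simpa using d.hall.1 u hu (dvd_card_of_mem hy hyu)

theorem isSolvable (d : One p q r s V K) : Group.IsSolvable K :=
  haveI := d.four.solv
  inferInstance

/-- The elements `z l z⁻¹ l⁻¹`. -/
def moved (z : G) (L : Subgroup G) (hc : ∀ a ∈ L, ∀ b ∈ L, Commute a b)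
    (hz : z ∈ normalizer (L : Set G)) : Subgroup G where
  carrier := {c | ∃ a ∈ L, z * a * z⁻¹ * a⁻¹ = c}
  one_mem' := ⟨1, L.one_mem, by simp⟩
  mul_mem' := by
    rintro _ _ ⟨a, ha, rfl⟩ ⟨b, hb, rfl⟩
    refine ⟨a * b, L.mul_mem ha hb, ?_⟩
    have h1 : Commute (z * b * z⁻¹) a⁻¹ :=
      (hc _ ((mem_normalizer_iff.mp hz b).mp hb) a ha).inv_right
    have h2 : Commute a⁻¹ b⁻¹ := (hc a ha b hb).inv_left.inv_right
    calc z * (a * b) * z⁻¹ * (a * b)⁻¹
        = z * a * z⁻¹ * (z * b * z⁻¹) * (b⁻¹ * a⁻¹) := by group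
      _ = z * a * z⁻¹ * ((z * b * z⁻¹) * a⁻¹) * b⁻¹ := by rw [← h2.eq]; group
      _ = z * a * z⁻¹ * a⁻¹ * (z * b * z⁻¹ * b⁻¹) := by rw [h1.eq]; group
  inv_mem' := by
    rintro _ ⟨a, ha, rfl⟩
    refine ⟨a⁻¹, L.inv_mem ha, ?_⟩
    have h1 : Commute a (z * a⁻¹ * z⁻¹) :=
      hc a ha _ ((mem_normalizer_iff.mp hz _).mp (L.inv_mem ha))
    rw [inv_inv, ← h1.eq]
    group

omit [Finite G] in
theorem moved_le {z : G} {L : Subgroup G} (hc : ∀ a ∈ L, ∀ b ∈ L, Commute a b)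
    (hz : z ∈ normalizer (L : Set G)) : moved z L hc hz ≤ L := by
  rintro _ ⟨a, ha, rfl⟩
  exact L.mul_mem ((mem_normalizer_iff.mp hz a).mp ha) (L.inv_mem ha)

theorem moved_fixed {z : G} {L : Subgroup G} (hc : ∀ a ∈ L, ∀ b ∈ L, Commute a b)
    (hz : z ∈ normalizer (L : Set G)) {t : ℕ} (ht : t.Prime) (hzt : z ^ t = 1)
    (hcop : ¬ t ∣ Nat.card L) {c : G} (hcm : c ∈ moved z L hc hz) (hzc : Commute z c) : c = 1 := by
  obtain ⟨a, ha, rfl⟩ := hcm
  set c := z * a * z⁻¹ * a⁻¹ with hc'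
  have hza : z * a * z⁻¹ = c * a := by rw [hc']; group
  have hk : ∀ k : ℕ, z ^ k * a * (z ^ k)⁻¹ = c ^ k * a := by
    intro k
    induction k with
    | zero => simp
    | succ k ih =>
      calc z ^ (k + 1) * a * (z ^ (k + 1))⁻¹ = z * (z ^ k * a * (z ^ k)⁻¹) * z⁻¹ := by
            rw [pow_succ']; group
        _ = z * c ^ k * a * z⁻¹ := by rw [ih]; group
        _ = c ^ k * (z * a * z⁻¹) := by rw [(hzc.pow_right k).eq]; group
        _ = c ^ (k + 1) * a := by rw [hza, ← mul_assoc, ← pow_succ]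
  have h1 := hk t
  rw [hzt, inv_one, mul_one, one_mul, right_eq_mul] at h1
  exact eq_one_of_pow_eq_one_of_coprime (moved_le hc hz ⟨a, ha, hc'.symm⟩) h1
    (ht.coprime_iff_not_dvd.mpr hcop)

theorem moved_normalizes {z w : G} {L : Subgroup G} (hc : ∀ a ∈ L, ∀ b ∈ L, Commute a b)
    (hz : z ∈ normalizer (L : Set G)) (hw : w ∈ normalizer (L : Set G)) (hwz : Commute w z) :
    w ∈ normalizer (moved z L hc hz : Set G) := by
  refine mem_normalizer_of_conj_mem ?_
  rintro _ ⟨a, ha, rfl⟩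
  refine ⟨w * a * w⁻¹, (mem_normalizer_iff.mp hw a).mp ha, ?_⟩
  calc z * (w * a * w⁻¹) * z⁻¹ * (w * a * w⁻¹)⁻¹
      = (z * w) * a * (z * w)⁻¹ * (w * a * w⁻¹)⁻¹ := by group
    _ = w * (z * a * z⁻¹ * a⁻¹) * w⁻¹ := by rw [← hwz.eq]; group

/-- Every moved element is moved from a moved element. -/
theorem moved_surj {z : G} {L : Subgroup G} (hc : ∀ a ∈ L, ∀ b ∈ L, Commute a b)
    (hz : z ∈ normalizer (L : Set G)) {t : ℕ} (ht : t.Prime) (hzt : z ^ t = 1)
    (hcop : ¬ t ∣ Nat.card L) {c : G} (hcm : c ∈ moved z L hc hz) :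
    ∃ b ∈ moved z L hc hz, z * b * z⁻¹ * b⁻¹ = c := by
  set B := moved z L hc hz
  let ψ : B → B := fun b => ⟨z * b * z⁻¹ * (b : G)⁻¹, ⟨b, moved_le hc hz b.2, rfl⟩⟩
  have hinj : Function.Injective ψ := by
    intro a b hab
    have h0 : z * a * z⁻¹ * (a : G)⁻¹ = z * b * z⁻¹ * (b : G)⁻¹ := congrArg Subtype.val hab
    have hab' : Commute (a : G) b := hc a (moved_le hc hz a.2) b (moved_le hc hz b.2)
    have h1 : (a : G) * (b : G)⁻¹ = 1 := by
      refine moved_fixed hc hz ht hzt hcop (B.mul_mem a.2 (B.inv_mem b.2)) (mul_inv_eq_iff_eq_mul.mp ?_)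
      have h2 : z * a * z⁻¹ = z * b * z⁻¹ * (b : G)⁻¹ * a := by rw [← h0]; group
      calc z * (a * (b : G)⁻¹) * z⁻¹ = (z * a * z⁻¹) * (z * b * z⁻¹)⁻¹ := by group
        _ = (z * b * z⁻¹) * ((b : G)⁻¹ * a) * (z * b * z⁻¹)⁻¹ := by rw [h2]; group
        _ = (b : G)⁻¹ * a := by
          rw [(hc _ ((mem_normalizer_iff.mp hz _).mp (moved_le hc hz b.2)) _
            (L.mul_mem (L.inv_mem (moved_le hc hz b.2)) (moved_le hc hz a.2))).eq]
          group
        _ = (a : G) * (b : G)⁻¹ := hab'.inv_right.eq.symm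
    exact Subtype.ext (mul_inv_eq_one.mp h1)
  obtain ⟨b, hb⟩ := Finite.injective_iff_surjective.mp hinj ⟨c, hcm⟩
  exact ⟨b, b.2, congrArg Subtype.val hb⟩

theorem pow_fix {x : G} {t : ℕ} (ht : t.Prime) (hxt : x ^ t = 1) {i : ℕ} (hi : ¬ t ∣ i) {c : G}
    (h : Commute (x ^ i) c) : Commute x c := by
  obtain ⟨k, hk⟩ := exists_pow_eq_self_of_coprime (n := i) (x := x)
    (Nat.Coprime.coprime_dvd_right (orderOf_dvd_of_pow_eq_one hxt) (ht.coprime_iff_not_dvd.mpr hi).symm)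
  rw [← hk]
  exact h.pow_left k

theorem nontrivial_moved {z : G} {L : Subgroup G} (hc : ∀ a ∈ L, ∀ b ∈ L, Commute a b)
    (hz : z ∈ normalizer (L : Set G)) (h : ¬ ∀ l ∈ L, Commute z l) :
    ∃ a ∈ moved z L hc hz, a ≠ 1 := by
  by_contra hcon
  push Not at hcon
  exact h fun l hl => mul_inv_eq_iff_eq_mul.mp (mul_inv_eq_one.mp (hcon _ ⟨l, hl, rfl⟩))

/-- Of two commuting elements of orders `r` and `s`, one centralizes each normal elementary
`q`-subgroup. -/
theorem pair (d : One p q r s V K) {L : Subgroup G} (hL : Elem q L) (hLK : L ≤ K)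
    (hn : K ≤ normalizer (L : Set G)) {x y : G} (hx : x ∈ K) (hy : y ∈ K) (hxr : orderOf x = r)
    (hys : orderOf y = s) (hxy : Commute x y) :
    (∀ l ∈ L, Commute x l) ∨ (∀ l ∈ L, Commute y l) := by
  classical
  by_contra hcon
  push Not at hcon
  obtain ⟨⟨l1, hl1, hl1x⟩, ⟨l2, hl2, hl2y⟩⟩ := hcon
  have hf := d.four
  have hxn := hn hx
  have hyn := hn hy
  have hrL : ¬ r ∣ Nat.card L := hL.not_dvd hf.hr hf.qr.symm
  have hsL : ¬ s ∣ Nat.card L := hL.not_dvd hf.hs hf.qs.symm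
  have hqV : ∀ U : Subgroup G, U ≤ L → (Nat.card U).Coprime (Nat.card V) := fun U hU =>
    d.hV.coprime fun u hu hd => (hL.eq_of_dvd hu (hd.trans (Subgroup.card_dvd_of_le hU))).symm ▸ hf.pq.symm
  have hT : ∀ c ∈ L, Commute x c → Commute y c → c = 1 := fun c hc h1 h2 => by
    by_contra hc1
    exact hf.nt_qrs (hL.orderOf_eq hc hc1) hxr hys h1.symm hxy h2.symm
  have hxs : (x * y) ^ s = x ^ s := by rw [hxy.mul_pow, pow_orderOf' hys, mul_one]
  have hxyr : (x * y) ^ (r * s) = 1 := by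
    rw [hxy.mul_pow, pow_mul, pow_orderOf' hxr, one_pow, one_mul, mul_comm, pow_mul, pow_orderOf' hys,
      one_pow]
  have hrs' : ¬ r ∣ s := fun h => hf.rs ((Nat.prime_dvd_prime_iff_eq hf.hr hf.hs).mp h)
  have hsr' : ¬ s ∣ r := fun h => hf.rs ((Nat.prime_dvd_prime_iff_eq hf.hs hf.hr).mp h).symm
  have hxyV : ¬ Fixes (x * y) V := by
    rintro ⟨v, hv, hv1, hc⟩
    have h1 : Commute x v := pow_fix hf.hr (pow_orderOf' hxr) hrs' (hxs ▸ hc.pow_left s)
    have h2 : Commute y v := pow_fix hf.hs (pow_orderOf' hys) hsr' (by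
      have := hc.pow_left r
      rwa [hxy.mul_pow, pow_orderOf' hxr, one_mul] at this)
    exact hf.nt_prs (d.hV.orderOf_eq hv hv1) hxr hys h1.symm hxy h2.symm
  set A := moved y L hL.comm hyn with hA
  set B := moved x L hL.comm hxn with hB
  -- each of `A`, `B` is centralized by the other element
  have hswap : ∀ b ∈ B, Commute y b := by
    have hBc : ∀ a ∈ B, ∀ b ∈ B, Commute a b := fun a ha b hb =>
      hL.comm a (moved_le _ _ ha) b (moved_le _ _ hb)
    have hyB : y ∈ normalizer (B : Set G) := moved_normalizes _ _ hyn hxy.symm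
    have hxB : x ∈ normalizer (B : Set G) := moved_normalizes _ _ hxn (Commute.refl x)
    set U := moved y B hBc hyB with hU
    have hUL : U ≤ L := (moved_le _ _).trans (moved_le _ _)
    have hcen := commute_of_fpf V U d.hV.comm ((hUL.trans hLK).trans d.hKV) (d.hKV (mul_mem hx hy))
      (mul_mem (moved_normalizes _ _ hxB hxy) (moved_normalizes _ _ hyB (Commute.refl y)))
      (Nat.mul_pos hf.hr.pos hf.hs.pos) hxyr ?_ (hqV U hUL) hxyV
    · intro b hb
      have hmem : y * b * y⁻¹ * b⁻¹ ∈ U := ⟨b, hb, rfl⟩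
      exact mul_inv_eq_iff_eq_mul.mp (mul_inv_eq_one.mp
        (d.faithful _ (hLK (hUL hmem)) (hcen _ hmem)))
    · intro i hi hir c hc hci
      rw [hxy.mul_pow] at hci
      by_cases hri : r ∣ i
      · have hxi : x ^ i = 1 := by
          obtain ⟨k, rfl⟩ := hri
          rw [pow_mul, pow_orderOf' hxr, one_pow]
        rw [hxi, one_mul] at hci
        have hsi : ¬ s ∣ i := fun hsi => absurd (Nat.le_of_dvd hi
          (((Nat.coprime_primes hf.hr hf.hs).mpr hf.rs).mul_dvd_of_dvd_of_dvd hri hsi)) (by omega)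
        exact moved_fixed hBc hyB hf.hs (pow_orderOf' hys)
          (fun h => hsL (h.trans (Subgroup.card_dvd_of_le (moved_le _ _)))) hc
          (pow_fix hf.hs (pow_orderOf' hys) hsi hci)
      · have h1 := hci.pow_left s
        rw [(hxy.pow_pow i i).mul_pow, ← pow_mul, ← pow_mul, mul_comm i, pow_mul y,
          pow_orderOf' hys, one_pow, mul_one, pow_mul] at h1
        have h2 : Commute (x ^ s) c := pow_fix hf.hr
          (by rw [← pow_mul, mul_comm, pow_mul, pow_orderOf' hxr, one_pow]) hri h1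
        exact moved_fixed hL.comm hxn hf.hr (pow_orderOf' hxr) hrL (moved_le _ _ hc)
          (pow_fix hf.hr (pow_orderOf' hxr) hrs' h2)
  have hswapA : ∀ a ∈ A, Commute x a := by
    intro a ha
    obtain ⟨l, hl, rfl⟩ := ha
    have h1 := hswap _ ⟨l, hl, rfl⟩
    refine mul_inv_eq_iff_eq_mul.mp ?_
    have h2 : y * (x * l * x⁻¹ * l⁻¹) * y⁻¹ = x * l * x⁻¹ * l⁻¹ := by
      rw [h1.eq, mul_inv_cancel_right]
    have h3 : Commute (x * l * x⁻¹) (y * l * y⁻¹) :=
      hL.comm _ ((mem_normalizer_iff.mp hxn l).mp hl) _ ((mem_normalizer_iff.mp hyn l).mp hl)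
    have h4 : x * (y * l * y⁻¹) * x⁻¹ = y * (x * l * x⁻¹) * y⁻¹ := by
      calc x * (y * l * y⁻¹) * x⁻¹ = (x * y) * l * (x * y)⁻¹ := by group
        _ = (y * x) * l * (y * x)⁻¹ := by rw [hxy.eq]
        _ = y * (x * l * x⁻¹) * y⁻¹ := by group
    calc x * (y * l * y⁻¹ * l⁻¹) * x⁻¹ = x * (y * l * y⁻¹) * x⁻¹ * (x * l * x⁻¹)⁻¹ := by group
      _ = (y * (x * l * x⁻¹ * l⁻¹) * y⁻¹) * (y * l * y⁻¹) * (x * l * x⁻¹)⁻¹ := by rw [h4]; group
      _ = (x * l * x⁻¹) * (l⁻¹ * (y * l * y⁻¹)) * (x * l * x⁻¹)⁻¹ := by rw [h2]; group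
      _ = l⁻¹ * (y * l * y⁻¹) := by
        rw [((hL.comm _ ((mem_normalizer_iff.mp hxn l).mp hl) l hl).inv_right.mul_right h3).eq]
        group
      _ = y * l * y⁻¹ * l⁻¹ := (hL.comm _ ((mem_normalizer_iff.mp hyn l).mp hl) l hl).inv_right.eq.symm
  obtain ⟨a1, ha1, ha11⟩ := nontrivial_moved hL.comm hyn (fun h => hl2y (h l2 hl2))
  obtain ⟨b1, hb1, hb11⟩ := nontrivial_moved hL.comm hxn (fun h => hl1x (h l1 hl1))
  have hAq : orderOf a1 = q := hL.orderOf_eq (moved_le _ _ ha1) ha11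
  have hBq : orderOf b1 = q := hL.orderOf_eq (moved_le _ _ hb1) hb11
  -- fixed points of `A` and of `B` agree
  have htrans : ∀ {z : G} {t : ℕ} (hzn : z ∈ normalizer (L : Set G)) (A' : Subgroup G) (a : G),
      z ∈ K → t.Prime → orderOf z = t → ¬ t ∣ Nat.card L → A' ≤ L → a ∈ A' → a ≠ 1 →
      (∀ a ∈ A', Commute z a) → (∀ v ∈ V, v ≠ 1 → Commute a v → Commute z v → False) →
      ∀ v ∈ V, (∀ a ∈ A', Commute a v) → ∀ b ∈ moved z L hL.comm hzn, Commute b v := by
    intro z t hzn A' a hz ht hzt htL hA'L ha ha1' hza hnt v hv hvA b hb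
    set W := V ⊓ centralizer (A' : Set G) with hW
    have hvW : v ∈ W := ⟨hv, mem_centralizer_iff.mpr fun g hg => (hvA g hg).eq⟩
    have hnW : ∀ g ∈ K, (∀ a ∈ A', Commute g a) → g ∈ normalizer (W : Set G) := fun g hg hga =>
      mem_normalizer_of_conj_mem fun w hw => ⟨(mem_normalizer_iff.mp (d.hKV hg) w).mp hw.1,
        mem_centralizer_iff.mpr fun a ha => by
          have h1 : Commute a w := (mem_centralizer_iff.mp hw.2) a ha
          exact (((hga a ha).symm.mul_right h1).mul_right (hga a ha).symm.inv_right).eq⟩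
    have hBL := moved_le hL.comm hzn
    obtain ⟨b', hb', rfl⟩ := moved_surj hL.comm hzn ht (pow_orderOf' hzt) htL hb
    exact commutator_commute W (moved z L hL.comm hzn) (fun a ha b hb => d.hV.comm a ha.1 b hb.1)
      (fun a ha b hb => hL.comm a (hBL ha) b (hBL hb))
      (fun g hg => hnW g (hLK (hBL hg)) fun a ha => hL.comm g (hBL hg) a (hA'L ha))
      (hnW z hz hza) (moved_normalizes _ _ hzn (Commute.refl z)) ht (pow_orderOf' hzt)
      (fun h => htL (h.trans (Subgroup.card_dvd_of_le hBL)))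
      (Nat.Coprime.coprime_dvd_right (Subgroup.card_dvd_of_le inf_le_left) (hqV _ hBL))
      (fun ⟨w, hw, hw1, hzw⟩ => hnt w hw.1 hw1 ((mem_centralizer_iff.mp hw.2) a ha) hzw)
      hb' v hvW
  have hAB : ∀ v ∈ V, (∀ a ∈ A, Commute a v) → ∀ b ∈ B, Commute b v :=
    htrans hxn A a1 hx hf.hr hxr hrL (moved_le _ _) ha1 ha11 hswapA
      (fun v hv hv1 hav hxv => hf.nt_pqr (d.hV.orderOf_eq hv hv1) hAq hxr hav.symm
        (hswapA a1 ha1).symm hxv.symm)
  have hBA : ∀ v ∈ V, (∀ b ∈ B, Commute b v) → ∀ a ∈ A, Commute a v :=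
    htrans hyn B b1 hy hf.hs hys hsL (moved_le _ _) hb1 hb11 hswap
      (fun v hv hv1 hbv hyv => hf.nt_pqs (d.hV.orderOf_eq hv hv1) hBq hys hbv.symm
        (hswap b1 hb1).symm hyv.symm)
  have hLdec : ∀ v ∈ V, (∀ a ∈ A, Commute a v) → (∀ b ∈ B, Commute b v) → ∀ l ∈ L, Commute l v := by
    intro v hv hA' hB' l hl
    obtain ⟨b, hb, hbe⟩ := moved_surj hL.comm hxn hf.hr (pow_orderOf' hxr) hrL
      (c := x * l * x⁻¹ * l⁻¹) ⟨l, hl, rfl⟩
    have hbL := moved_le _ _ hb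
    set c := l * b⁻¹ with hc'
    have hcL : c ∈ L := L.mul_mem hl (L.inv_mem hbL)
    have hxc : Commute x c := by
      refine mul_inv_eq_iff_eq_mul.mp ?_
      have e2 : x * l * x⁻¹ = x * b * x⁻¹ * b⁻¹ * l := by rw [hbe]; group
      calc x * (l * b⁻¹) * x⁻¹ = (x * l * x⁻¹) * (x * b * x⁻¹)⁻¹ := by group
        _ = (x * b * x⁻¹) * (b⁻¹ * l) * (x * b * x⁻¹)⁻¹ := by rw [e2]; group
        _ = b⁻¹ * l := by
          rw [(hL.comm _ ((mem_normalizer_iff.mp hxn b).mp hbL) _ (L.mul_mem (L.inv_mem hbL) hl)).eq]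
          group
        _ = l * b⁻¹ := (hL.comm l hl b hbL).inv_right.eq.symm
    obtain ⟨a, ha, hae⟩ := moved_surj hL.comm hyn hf.hs (pow_orderOf' hys) hsL
      (c := y * c * y⁻¹ * c⁻¹) ⟨c, hcL, rfl⟩
    have haL := moved_le _ _ ha
    have hone : c * a⁻¹ = 1 := by
      refine hT _ (L.mul_mem hcL (L.inv_mem haL)) (hxc.mul_right (hswapA a ha).inv_right) ?_
      refine mul_inv_eq_iff_eq_mul.mp ?_
      have e2 : y * c * y⁻¹ = y * a * y⁻¹ * a⁻¹ * c := by rw [hae]; group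
      calc y * (c * a⁻¹) * y⁻¹ = (y * c * y⁻¹) * (y * a * y⁻¹)⁻¹ := by group
        _ = (y * a * y⁻¹) * (a⁻¹ * c) * (y * a * y⁻¹)⁻¹ := by rw [e2]; group
        _ = a⁻¹ * c := by
          rw [(hL.comm _ ((mem_normalizer_iff.mp hyn a).mp haL) _ (L.mul_mem (L.inv_mem haL) hcL)).eq]
          group
        _ = c * a⁻¹ := (hL.comm c hcL a haL).inv_right.eq.symm
    have : l = a * b := by rw [← mul_inv_eq_one.mp hone, hc', inv_mul_cancel_right]
    rw [this]
    exact (hA' a ha).mul_left (hB' b hb)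
  have hLne : L ≠ ⊥ := hL.ne_bot
  have hAfpf : ∀ v ∈ V, (∀ a ∈ A, Commute a v) → v = 1 := fun v hv h =>
    d.cv L hLK hn hLne v hv (hLdec v hv h (hAB v hv h))
  have hBfpf : ∀ v ∈ V, (∀ b ∈ B, Commute b v) → v = 1 := fun v hv h =>
    d.cv L hLK hn hLne v hv (hLdec v hv (hBA v hv h) h)
  -- the averaging argument
  letI := commGroupOf V d.hV.comm
  letI := conjAction V d.hV.comm
  have hLN : L ≤ normalizer (V : Set G) := hLK.trans d.hKV
  let U : Subgroup ↥(normalizer (V : Set G)) := L.subgroupOf _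
  haveI := Fintype.ofFinite U
  let x' : ↥(normalizer (V : Set G)) := ⟨x * y, d.hKV (mul_mem hx hy)⟩
  have hUc : ∀ u u' : U, Commute ((u : ↥(normalizer (V : Set G))) : G) ((u' : ↥(normalizer (V : Set G))) : G) :=
    fun u u' => hL.comm _ u.2 _ u'.2
  have key : ∀ (g : U) (v : V), (g : ↥(normalizer (V : Set G))) • (v ^ Fintype.card U) =
      v ^ Fintype.card U := by
    intro g v
    refine smul_pow_card_eq U x' (Nat.mul_pos hf.hr.pos hf.hs.pos) (Subtype.ext hxyr)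
      (fun w hw => Subtype.ext (eq_one_of_not_fixes hxyV w.2
        (mul_inv_eq_iff_eq_mul.mp (congrArg Subtype.val hw : x * y * (w : G) * (x * y)⁻¹ = w))))
      (fun i hi hir w => ?_) v
    set P := ∏ u : U, ((u : ↥(normalizer (V : Set G))) * x' ^ i *
      (u : ↥(normalizer (V : Set G)))⁻¹ * (x' ^ i)⁻¹) • w with hP
    have hin : ∀ c : U, ∀ e : ↥(normalizer (V : Set G)),
        (e : G) = (c : ↥(normalizer (V : Set G))) * (x * y) ^ i *
          ((c : ↥(normalizer (V : Set G))) : G)⁻¹ * ((x * y) ^ i)⁻¹ → e • P = P := by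
      intro c e he
      rw [hP, Finset.smul_prod']
      simp_rw [← mul_smul]
      refine Fintype.prod_bijective (Equiv.mulLeft c) (Equiv.bijective _) _ _ fun u => ?_
      congr 1
      refine Subtype.ext ?_
      push_cast [x']
      rw [he]
      set X := (x * y) ^ i
      have hXn : X ∈ normalizer (L : Set G) := pow_mem (mul_mem hxn hyn) i
      have h1 : X * ((c : ↥(normalizer (V : Set G))) : G)⁻¹ * X⁻¹ ∈ L :=
        (mem_normalizer_iff.mp hXn _).mp (L.inv_mem c.2)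
      have h2 : Commute (X * ((c : ↥(normalizer (V : Set G))) : G)⁻¹ * X⁻¹)
          ((u : ↥(normalizer (V : Set G))) : G) := hL.comm _ h1 _ u.2
      calc ((c : ↥(normalizer (V : Set G))) : G) * X * ((c : ↥(normalizer (V : Set G))) : G)⁻¹ * X⁻¹ *
            (((u : ↥(normalizer (V : Set G))) : G) * X * ((u : ↥(normalizer (V : Set G))) : G)⁻¹ * X⁻¹)
          = ((c : ↥(normalizer (V : Set G))) : G) *
              ((X * ((c : ↥(normalizer (V : Set G))) : G)⁻¹ * X⁻¹) * (u : ↥(normalizer (V : Set G)))) *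
              (X * ((u : ↥(normalizer (V : Set G))) : G)⁻¹ * X⁻¹) := by group
        _ = ((c : ↥(normalizer (V : Set G))) : G) * (u : ↥(normalizer (V : Set G))) *
              (X * (((u : ↥(normalizer (V : Set G))) : G) * (c : ↥(normalizer (V : Set G))))⁻¹ * X⁻¹) := by
            rw [h2.eq]; simp only [mul_inv_rev]; group
        _ = ((c : ↥(normalizer (V : Set G))) : G) * (u : ↥(normalizer (V : Set G))) * X *
              (((c : ↥(normalizer (V : Set G))) : G) * (u : ↥(normalizer (V : Set G))))⁻¹ * X⁻¹ := by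
            rw [(hUc u c).eq]; group
    suffices h1 : P = 1 by rw [h1, smul_one]
    have hrange : ∀ (S : Subgroup G) (z : G) (t : ℕ), S ≤ L → t.Prime → z ^ t = 1 → ¬ t ∣ i →
        z ∈ normalizer (S : Set G) → (∀ a ∈ S, (x * y) ^ i * a * ((x * y) ^ i)⁻¹ = z ^ i * a * (z ^ i)⁻¹) →
        (∀ a ∈ S, Commute z a → a = 1) → ∀ a ∈ S, Commute a (P : G) := by
      intro S z t hSL ht hzt hti hzS hsame hfix a ha
      let ψ : S → S := fun b => ⟨(b : G) * (z ^ i * (b : G)⁻¹ * (z ^ i)⁻¹),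
        S.mul_mem b.2 ((mem_normalizer_iff.mp (pow_mem hzS i) _).mp (S.inv_mem b.2))⟩
      have hinj : Function.Injective ψ := fun b b' hbb => by
        have h0 : (b : G) * (z ^ i * (b : G)⁻¹ * (z ^ i)⁻¹) = (b' : G) * (z ^ i * (b' : G)⁻¹ * (z ^ i)⁻¹) :=
          congrArg Subtype.val hbb
        have h1 : (b' : G)⁻¹ * b = 1 := hfix _ (S.mul_mem (S.inv_mem b'.2) b.2) (pow_fix ht hzt hti (by
          calc z ^ i * ((b' : G)⁻¹ * b)
              = (b' : G)⁻¹ * ((b' : G) * (z ^ i * (b' : G)⁻¹ * (z ^ i)⁻¹)) * (z ^ i * b) := by group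
            _ = (b' : G)⁻¹ * ((b : G) * (z ^ i * (b : G)⁻¹ * (z ^ i)⁻¹)) * (z ^ i * b) := by rw [h0]
            _ = (b' : G)⁻¹ * b * z ^ i := by group))
        exact (Subtype.ext (inv_mul_eq_one.mp h1)).symm
      obtain ⟨b, hb⟩ := Finite.injective_iff_surjective.mp hinj ⟨a, ha⟩
      have hb' : (b : G) * (z ^ i * (b : G)⁻¹ * (z ^ i)⁻¹) = a := congrArg Subtype.val hb
      have := hin ⟨⟨b, hLN (hSL b.2)⟩, hSL b.2⟩ ⟨a, hLN (hSL ha)⟩ (by
        show a = (b : G) * (x * y) ^ i * (b : G)⁻¹ * ((x * y) ^ i)⁻¹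
        rw [← hb', ← hsame _ (S.inv_mem b.2)]
        group)
      exact mul_inv_eq_iff_eq_mul.mp (congrArg Subtype.val this : a * (P : G) * a⁻¹ = P)
    by_cases hsi : s ∣ i
    · have hri : ¬ r ∣ i := fun hri => absurd (Nat.le_of_dvd hi
        (((Nat.coprime_primes hf.hr hf.hs).mpr hf.rs).mul_dvd_of_dvd_of_dvd hri hsi)) (by omega)
      have hyi : y ^ i = 1 := by
        obtain ⟨k, rfl⟩ := hsi
        rw [pow_mul, pow_orderOf' hys, one_pow]
      exact Subtype.ext (hBfpf _ P.2 (hrange B x r (moved_le _ _) hf.hr (pow_orderOf' hxr) hri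
        (moved_normalizes _ _ hxn (Commute.refl x))
        (fun a _ => by rw [hxy.mul_pow, hyi, mul_one])
        (fun a ha hc => moved_fixed hL.comm hxn hf.hr (pow_orderOf' hxr) hrL ha hc)))
    · refine Subtype.ext (hAfpf _ P.2 (hrange A y s (moved_le _ _) hf.hs (pow_orderOf' hys) hsi
        (moved_normalizes _ _ hyn (Commute.refl y)) (fun a ha => ?_)
        (fun a ha hc => moved_fixed hL.comm hyn hf.hs (pow_orderOf' hys) hsL ha hc)))
      have hb : y ^ i * a * (y ^ i)⁻¹ ∈ A :=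
        (mem_normalizer_iff.mp (pow_mem (moved_normalizes _ _ hyn (Commute.refl y)) i) a).mp ha
      calc (x * y) ^ i * a * ((x * y) ^ i)⁻¹ = x ^ i * (y ^ i * a * (y ^ i)⁻¹) * (x ^ i)⁻¹ := by
            rw [hxy.mul_pow]; group
        _ = y ^ i * a * (y ^ i)⁻¹ := by rw [((hswapA _ hb).pow_left i).eq, mul_inv_cancel_right]
  obtain ⟨v, hv, hv1⟩ := d.hV.exists_ne_one
  have hcoU : (Nat.card V).Coprime (Fintype.card U) := by
    rw [← Nat.card_eq_fintype_card, Nat.card_congr (Subgroup.subgroupOfEquivOfLe hLN).toEquiv]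
    exact (hqV L le_rfl).symm
  refine hv1 (d.cv L hLK hn hLne v hv fun l hl => ?_)
  obtain ⟨w, hw⟩ := (powCoprime hcoU).surjective (⟨v, hv⟩ : V)
  have hw' : w ^ Fintype.card U = (⟨v, hv⟩ : V) := hw
  have := key ⟨⟨l, hLN hl⟩, hl⟩ w
  rw [hw'] at this
  exact mul_inv_eq_iff_eq_mul.mp (congrArg Subtype.val this : l * v * l⁻¹ = v)

end One

end Cfsg.Agent.FGS77.FourPrimes
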