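import Cfsg.Agent.FGS77.FourPrimes.Averaging

/-!
# Solvable groups with four primes pairwise, but not triply, joined: basic lemmas
-/

set_option autoImplicit false

namespace Cfsg.Agent.FGS77.FourPrimes

open Subgroup
open scoped Pointwise

variable {G : Type*} [Group G] [Finite G]

/-- `p, q, r, s` are distinct primes, pairwise joined and not triply joined in the solvable
group `G`. -/
structure Four (G : Type*) [Group G] (p q r s : ℕ) : Prop where
  solv : Group.IsSolvable G
  hp : p.Prime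
  hq : q.Prime
  hr : r.Prime
  hs : s.Prime
  pq : p ≠ q
  pr : p ≠ r
  ps : p ≠ s
  qr : q ≠ r
  qs : q ≠ s
  rs : r ≠ s
  edge : ∀ a ∈ ({p, q, r, s} : Finset ℕ), ∀ b ∈ ({p, q, r, s} : Finset ℕ), a ≠ b →
    ∃ g : G, orderOf g = a * b
  triple : ∀ a ∈ ({p, q, r, s} : Finset ℕ), ∀ b ∈ ({p, q, r, s} : Finset ℕ),
    ∀ c ∈ ({p, q, r, s} : Finset ℕ), a ≠ b → b ≠ c → a ≠ c → ∀ g : G, orderOf g ≠ a * b * c

namespace Four

variable {p q r s : ℕ}

omit [Finite G] in
theorem swap12 (h : Four G p q r s) : Four G q p r s :=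
  have e : ({q, p, r, s} : Finset ℕ) = {p, q, r, s} := Finset.insert_comm _ _ _
  ⟨h.solv, h.hq, h.hp, h.hr, h.hs, h.pq.symm, h.qr, h.qs, h.pr, h.ps, h.rs, e ▸ h.edge, e ▸ h.triple⟩

omit [Finite G] in
theorem swap23 (h : Four G p q r s) : Four G p r q s :=
  have e : ({p, r, q, s} : Finset ℕ) = {p, q, r, s} := by rw [Finset.insert_comm r q]
  ⟨h.solv, h.hp, h.hr, h.hq, h.hs, h.pr, h.pq, h.ps, h.qr.symm, h.rs, h.qs, e ▸ h.edge, e ▸ h.triple⟩

omit [Finite G] in
theorem swap34 (h : Four G p q r s) : Four G p q s r :=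
  have e : ({p, q, s, r} : Finset ℕ) = {p, q, r, s} := by rw [Finset.pair_comm s r]
  ⟨h.solv, h.hp, h.hq, h.hs, h.hr, h.pq, h.ps, h.pr, h.qs, h.qr, h.rs.symm, e ▸ h.edge, e ▸ h.triple⟩

/-- Rotations of the last three places. -/
theorem rot (h : Four G p q r s) : Four G p r s q := h.swap23.swap34

omit [Finite G] in
theorem not_commuting_triple (h : Four G p q r s) {x y z : G} {a b c : ℕ}
    (ha : a ∈ ({p, q, r, s} : Finset ℕ)) (hb : b ∈ ({p, q, r, s} : Finset ℕ))
    (hc : c ∈ ({p, q, r, s} : Finset ℕ)) (hab : a ≠ b) (hbc : b ≠ c) (hac : a ≠ c)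
    (hx : orderOf x = a) (hy : orderOf y = b) (hz : orderOf z = c)
    (hxy : Commute x y) (hyz : Commute y z) (hxz : Commute x z) : False := by
  have hprime : ∀ t ∈ ({p, q, r, s} : Finset ℕ), t.Prime := by
    intro t ht
    simp only [Finset.mem_insert, Finset.mem_singleton] at ht
    rcases ht with rfl | rfl | rfl | rfl
    exacts [h.hp, h.hq, h.hr, h.hs]
  have h1 : orderOf (x * y) = a * b := by
    rw [hxy.orderOf_mul_eq_mul_orderOf_of_coprime
      (by rw [hx, hy]; exact (Nat.coprime_primes (hprime a ha) (hprime b hb)).mpr hab), hx, hy]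
  refine h.triple a ha b hb c hc hab hbc hac (x * y * z) ?_
  rw [(Commute.mul_left hxz hyz).orderOf_mul_eq_mul_orderOf_of_coprime
    (by
      rw [h1, hz]
      exact Nat.Coprime.mul_left ((Nat.coprime_primes (hprime a ha) (hprime c hc)).mpr hac)
        ((Nat.coprime_primes (hprime b hb) (hprime c hc)).mpr hbc)), h1, hz]

omit [Finite G] in
theorem nt_qrs (h : Four G p q r s) {x y z : G} (hx : orderOf x = q) (hy : orderOf y = r)
    (hz : orderOf z = s) (hxy : Commute x y) (hyz : Commute y z) (hxz : Commute x z) : False :=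
  h.not_commuting_triple (by simp) (by simp) (by simp) h.qr h.rs h.qs hx hy hz hxy hyz hxz

omit [Finite G] in
theorem nt_pqr (h : Four G p q r s) {x y z : G} (hx : orderOf x = p) (hy : orderOf y = q)
    (hz : orderOf z = r) (hxy : Commute x y) (hyz : Commute y z) (hxz : Commute x z) : False :=
  h.not_commuting_triple (by simp) (by simp) (by simp) h.pq h.qr h.pr hx hy hz hxy hyz hxz

omit [Finite G] in
theorem nt_pqs (h : Four G p q r s) {x y z : G} (hx : orderOf x = p) (hy : orderOf y = q)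
    (hz : orderOf z = s) (hxy : Commute x y) (hyz : Commute y z) (hxz : Commute x z) : False :=
  h.swap34.nt_pqr hx hy hz hxy hyz hxz

omit [Finite G] in
theorem nt_prs (h : Four G p q r s) {x y z : G} (hx : orderOf x = p) (hy : orderOf y = r)
    (hz : orderOf z = s) (hxy : Commute x y) (hyz : Commute y z) (hxz : Commute x z) : False :=
  h.swap23.nt_pqs hx hy hz hxy hyz hxz

/-- No element has elements of the three other prime orders in its centralizer. -/
theorem no_three_in_centralizer (h : Four G p q r s) {g x y z : G} (hg : orderOf g = p)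
    (hx : orderOf x = q) (hy : orderOf y = r) (hz : orderOf z = s)
    (hgx : Commute g x) (hgy : Commute g y) (hgz : Commute g z) : False := by
  set C := centralizer ({g} : Set G) with hC
  haveI := h.solv
  have hmem : ∀ {w : G}, Commute g w → w ∈ C := fun hw =>
    mem_centralizer_singleton_iff.mpr hw.eq.symm
  have hdvd : ∀ {w : G}, Commute g w → orderOf w ∣ Nat.card (⊤ : Subgroup C) := fun hw => by
    rw [Subgroup.card_top, show orderOf _ = orderOf (⟨_, hmem hw⟩ : C) from
      (Subgroup.orderOf_coe (⟨_, hmem hw⟩ : C))]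
    exact orderOf_dvd_natCard _
  have hno : ∀ {a b : ℕ}, a.Prime → b.Prime → a ∈ ({p, q, r, s} : Finset ℕ) →
      b ∈ ({p, q, r, s} : Finset ℕ) → p ≠ a → a ≠ b → p ≠ b →
      ¬ ∃ w : C, orderOf w = a * b := by
    rintro a b ha hb hma hmb hpa hab hpb ⟨w, hw⟩
    have hwG : orderOf (w : G) = a * b := by rw [Subgroup.orderOf_coe, hw]
    have hgw : Commute g (w : G) := (mem_centralizer_singleton_iff.mp w.2).symm
    refine h.not_commuting_triple (by simp) hma hmb hpa hab hpb hg ?_ ?_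
      (hgw.pow_right b) ((Commute.refl (w : G)).pow_pow b a) (hgw.pow_right a)
    · rw [orderOf_pow' _ hb.ne_zero, hwG, Nat.gcd_eq_right (dvd_mul_left b a), Nat.mul_div_cancel _ hb.pos]
    · rw [orderOf_pow' _ ha.ne_zero, hwG, Nat.gcd_eq_right (dvd_mul_right a b), Nat.mul_div_cancel_left _ ha.pos]
  refine Recog71.at_most_one_in_solvable (⊤ : Subgroup C) inferInstance h.hq h.hr h.hs h.qr h.qs h.rs
    (hno h.hq h.hr (by simp) (by simp) h.pq h.qr h.pr) (hno h.hq h.hs (by simp) (by simp) h.pq h.qs h.ps)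
    (hno h.hr h.hs (by simp) (by simp) h.pr h.rs h.ps) (hx ▸ hdvd hgx) (hy ▸ hdvd hgy) ?_
  rw [← Subgroup.card_top (G := C)]
  exact hz ▸ hdvd hgz

end Four

theorem orderOf_eq_of_pow {g : G} {t : ℕ} (ht : t.Prime) (h : g ^ t = 1) (h1 : g ≠ 1) :
    orderOf g = t :=
  haveI := Fact.mk ht
  orderOf_eq_prime h h1

omit [Finite G] in
theorem ne_one_of_orderOf {g : G} {t : ℕ} (ht : t.Prime) (h : orderOf g = t) : g ≠ 1 := fun h1 =>
  ht.ne_one (by rw [← h, h1, orderOf_one])

omit [Finite G] in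
theorem pow_orderOf' {g : G} {t : ℕ} (h : orderOf g = t) : g ^ t = 1 := h ▸ pow_orderOf_eq_one g

omit [Finite G] in
theorem orderOf_conj (g x : G) : orderOf (g * x * g⁻¹) = orderOf x := by
  simpa using orderOf_injective (MulAut.conj g).toMonoidHom (MulAut.conj g).injective x

theorem dvd_card_of_mem {H : Subgroup G} {g : G} {t : ℕ} (hg : g ∈ H) (h : orderOf g = t) :
    t ∣ Nat.card H := by
  have := orderOf_dvd_natCard (⟨g, hg⟩ : H)
  rwa [← Subgroup.orderOf_coe, h] at this

theorem exists_orderOf_of_dvd {H : Subgroup G} {t : ℕ} (ht : t.Prime) (h : t ∣ Nat.card H) :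
    ∃ g ∈ H, orderOf g = t := by
  haveI := Fact.mk ht
  obtain ⟨g, hg⟩ := exists_prime_orderOf_dvd_card' (G := H) t h
  exact ⟨g, g.2, by rw [Subgroup.orderOf_coe, hg]⟩

/-- If `b` lies outside `⟨a⟩`, both of order `t`, then no `a * b ^ i` is trivial. -/
theorem orderOf_mul_pow {a b : G} {t : ℕ} (ht : t.Prime) (hab : Commute a b) (ha : orderOf a = t)
    (hb : orderOf b = t) (hne : b ∉ zpowers a) (i : ℕ) : orderOf (a * b ^ i) = t := by
  refine orderOf_eq_of_pow ht ?_ fun h1 => hne ?_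
  · rw [(hab.pow_right i).mul_pow, pow_orderOf' ha, one_mul, ← pow_mul, mul_comm, pow_mul,
      pow_orderOf' hb, one_pow]
  · have h2 : a⁻¹ = b ^ i := inv_eq_of_mul_eq_one_right h1
    have hi : i.Coprime t := by
      refine (Nat.Coprime.symm (ht.coprime_iff_not_dvd.mpr fun hd => ne_one_of_orderOf ht ha ?_))
      obtain ⟨k, rfl⟩ := hd
      rw [pow_mul, pow_orderOf' hb, one_pow] at h2
      exact inv_eq_one.mp h2
    obtain ⟨k, hk⟩ := exists_pow_eq_self_of_coprime (n := i) (x := b) (hb.symm ▸ hi)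
    rw [← hk, ← h2]
    exact pow_mem (inv_mem (mem_zpowers a)) k

/-- Inside a subgroup acting on `V`, if no element of order `t` has fixed points then commuting
elements of order `t` are dependent. -/
theorem mem_zpowers_of_no_fixes {V H : Subgroup G} {ℓ t : ℕ} (hV : ∀ a ∈ V, ∀ b ∈ V, Commute a b)
    (hV1 : V ≠ ⊥) (hℓ : ℓ.Prime) (ht : t.Prime) (hℓt : ℓ ≠ t) (hVℓ : ∀ v ∈ V, v ^ ℓ = 1)
    (hnf : ∀ y ∈ H, orderOf y = t → ¬ Fixes y V)
    {a b : G} (haV : a ∈ normalizer (V : Set G)) (hbV : b ∈ normalizer (V : Set G))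
    (ha : a ∈ H) (hb : b ∈ H) (hab : Commute a b) (hat : orderOf a = t) (hbt : orderOf b = t) :
    b ∈ zpowers a := by
  by_contra hne
  have htV : ¬ t ∣ Nat.card V := fun hd => by
    obtain ⟨g, hg, hgt⟩ := exists_orderOf_of_dvd ht hd
    exact hℓt ((Nat.prime_dvd_prime_iff_eq ht hℓ).mp (hgt ▸ orderOf_dvd_of_pow_eq_one (hVℓ g hg))).symm
  rcases fixes_of_cover V hV hV1 haV hbV ht hab (pow_orderOf' hat) (pow_orderOf' hbt) htV with
    h | ⟨i, -, h⟩
  · exact hnf b hb hbt h
  · exact hnf _ (mul_mem ha (pow_mem hb i)) (orderOf_mul_pow ht hab hat hbt hne i) h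

/-- A prime of a group with commuting elements all dependent: one subgroup of order `t` in each
`t`-subgroup, so all elements of order `t` are conjugate to powers of one of them. -/
theorem exists_conj_pow {H : Subgroup G} {t : ℕ} (ht : t.Prime)
    (hdep : ∀ a ∈ H, ∀ b ∈ H, orderOf a = t → orderOf b = t → Commute a b → b ∈ zpowers a)
    {z : G} (hz : z ∈ H) (hzt : orderOf z = t) {w : G} (hw : w ∈ H) (hwt : orderOf w = t) :
    ∃ h ∈ H, w ∈ zpowers (h * z * h⁻¹) := by
  haveI := Fact.mk ht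
  have hz' : IsPGroup t (zpowers (⟨z, hz⟩ : H)) :=
    IsPGroup.of_card (n := 1) (by rw [Nat.card_zpowers, ← Subgroup.orderOf_coe, pow_one]; exact hzt)
  have hw' : IsPGroup t (zpowers (⟨w, hw⟩ : H)) :=
    IsPGroup.of_card (n := 1) (by rw [Nat.card_zpowers, ← Subgroup.orderOf_coe, pow_one]; exact hwt)
  obtain ⟨P, hP⟩ := hz'.exists_le_sylow
  obtain ⟨Q, hQ⟩ := hw'.exists_le_sylow
  obtain ⟨h, hh⟩ := MulAction.exists_smul_eq H P Q
  have hzQ : h * (⟨z, hz⟩ : H) * h⁻¹ ∈ (Q : Subgroup H) := by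
    rw [← hh, Sylow.coe_subgroup_smul]
    exact smul_mem_pointwise_smul _ (MulAut.conj h) _ (hP (mem_zpowers _))
  have hwQ : (⟨w, hw⟩ : H) ∈ (Q : Subgroup H) := hQ (mem_zpowers _)
  haveI : Nontrivial (Q : Subgroup H) :=
    ⟨⟨⟨_, hwQ⟩, 1, fun hc => ne_one_of_orderOf ht hwt
      (congrArg (fun x : (Q : Subgroup H) => ((x : H) : G)) hc)⟩⟩
  obtain ⟨c, hcQ, hc1⟩ := Recog71.omegaCenter_ne_bot (P := (Q : Subgroup H)) Q.isPGroup'
    (dvd_card_of_mem hwQ (by rw [← Subgroup.orderOf_coe]; exact hwt))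
  have hct : orderOf (c : G) = t := by
    rw [Subgroup.orderOf_coe]; exact Recog71.orderOf_eq_of_mem_omegaCenter hcQ hc1
  have hcom : ∀ x ∈ (Q : Subgroup H), Commute (c : G) (x : G) := fun x hx =>
    (congrArg Subtype.val (hcQ.2.1 x hx) : (c : G) * x = x * c)
  refine ⟨h, h.2, ?_⟩
  have e1 := hdep c c.2 w hw hct hwt (hcom _ hwQ)
  have e2 := hdep c c.2 ((h : G) * z * (h : G)⁻¹) (mul_mem (mul_mem h.2 hz) (inv_mem h.2)) hct
    (by rw [orderOf_conj, hzt]) (hcom _ hzQ)
  have e3 : zpowers ((h : G) * z * (h : G)⁻¹) = zpowers (c : G) :=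
    eq_of_le_of_card_ge (zpowers_le.mpr e2) (by rw [Nat.card_zpowers, Nat.card_zpowers, orderOf_conj, hzt, hct])
  rw [e3]
  exact e1

namespace Four

variable {p q r s : ℕ}

/-- Every prime of the four has two independent commuting elements of that order. -/
theorem exists_pair (h : Four G p q r s) :
    ∃ a b : G, orderOf a = p ∧ orderOf b = p ∧ Commute a b ∧ b ∉ zpowers a := by
  by_contra hcon
  push Not at hcon
  have hdep : ∀ a ∈ (⊤ : Subgroup G), ∀ b ∈ (⊤ : Subgroup G), orderOf a = p → orderOf b = p →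
      Commute a b → b ∈ zpowers a := fun a _ b _ => hcon a b
  haveI := Fact.mk h.hp
  have key : ∀ t ∈ ({q, r, s} : Finset ℕ), ∃ g x : G, orderOf g = p ∧ orderOf x = t ∧ Commute g x := by
    intro t ht
    have hne : p ≠ t := by
      simp only [Finset.mem_insert, Finset.mem_singleton] at ht
      rcases ht with rfl | rfl | rfl
      exacts [h.pq, h.pr, h.ps]
    have htp : t.Prime := by
      simp only [Finset.mem_insert, Finset.mem_singleton] at ht
      rcases ht with rfl | rfl | rfl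
      exacts [h.hq, h.hr, h.hs]
    obtain ⟨w, hw⟩ := h.edge p (by simp) t (Finset.mem_insert_of_mem ht) hne
    refine ⟨w ^ t, w ^ p, ?_, ?_, (Commute.refl w).pow_pow t p⟩
    · rw [orderOf_pow' _ htp.ne_zero, hw, Nat.gcd_eq_right (dvd_mul_left t p), Nat.mul_div_cancel _ htp.pos]
    · rw [orderOf_pow' _ h.hp.ne_zero, hw, Nat.gcd_eq_right (dvd_mul_right p t), Nat.mul_div_cancel_left _ h.hp.pos]
  obtain ⟨g, x, hg, hx, hgx⟩ := key q (by simp)
  have move : ∀ t ∈ ({q, r, s} : Finset ℕ), ∃ y : G, orderOf y = t ∧ Commute g y := by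
    intro t ht
    obtain ⟨g', y, hg', hy, hc⟩ := key t ht
    obtain ⟨k, -, hk⟩ := exists_conj_pow h.hp hdep (mem_top g') hg' (mem_top g) hg
    obtain ⟨n, hn⟩ := hk
    refine ⟨k * y * k⁻¹, by rw [orderOf_conj, hy], ?_⟩
    rw [← hn]
    refine Commute.zpow_left ?_ n
    exact SemiconjBy.conj_iff.mpr hc
  obtain ⟨y, hy, hgy⟩ := move r (by simp)
  obtain ⟨z, hz, hgz⟩ := move s (by simp)
  exact h.no_three_in_centralizer hg hx hy hz hgx hgy hgz

/-- A pair inside a given subgroup containing a conjugate of every `p`-subgroup. -/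
theorem exists_pair_mem (h : Four G p q r s) {K : Subgroup G}
    (hK : ∀ T : Subgroup G, IsPGroup p T → ∃ g : G, ∀ x ∈ T, g * x * g⁻¹ ∈ K) :
    ∃ a ∈ K, ∃ b ∈ K, orderOf a = p ∧ orderOf b = p ∧ Commute a b ∧ b ∉ zpowers a := by
  obtain ⟨a, b, ha, hb, hab, hne⟩ := h.exists_pair
  haveI := Fact.mk h.hp
  have hcl : ∀ x ∈ ({a, b} : Set G), ∀ y ∈ ({a, b} : Set G), x * y = y * x := by
    simp only [Set.mem_insert_iff, Set.mem_singleton_iff]
    rintro x (rfl | rfl) y (rfl | rfl)
    exacts [rfl, hab.eq, hab.eq.symm, rfl]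
  letI := Subgroup.closureCommGroupOfComm hcl
  have hT : IsPGroup p (Subgroup.closure ({a, b} : Set G)) := by
    intro w
    refine ⟨1, ?_⟩
    rw [pow_one]
    obtain ⟨w, hw⟩ := w
    refine Subtype.ext ?_
    show w ^ p = 1
    induction hw using Subgroup.closure_induction with
    | mem x hx =>
      rcases hx with rfl | rfl
      exacts [pow_orderOf' ha, pow_orderOf' hb]
    | one => exact one_pow p
    | mul x y hx hy ihx ihy =>
      have : Commute x y := congrArg Subtype.val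
        (mul_comm (⟨x, hx⟩ : Subgroup.closure ({a, b} : Set G)) ⟨y, hy⟩)
      rw [this.mul_pow, ihx, ihy, one_mul]
    | inv x _ ih => rw [inv_pow, ih, inv_one]
  obtain ⟨g, hg⟩ := hK _ hT
  refine ⟨g * a * g⁻¹, hg a (subset_closure (by simp)), g * b * g⁻¹, hg b (subset_closure (by simp)),
    by rw [orderOf_conj, ha], by rw [orderOf_conj, hb], SemiconjBy.conj_iff.mpr hab, ?_⟩
  rintro ⟨n, hn⟩
  simp only [conj_zpow] at hn
  exact hne ⟨n, mul_left_cancel (mul_right_cancel hn)⟩

end Four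

end Cfsg.Agent.FGS77.FourPrimes
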