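import Cfsg.Agent.FGS77.FourPrimes.Setup
import Cfsg.Agent.Lib.Fitting.Minimal
import Cfsg.Agent.Lib.PGroup.Basic
import Cfsg.Agent.Lib.Coprime.Action

/-!
# Hall subgroups, cores and generation, as needed for S3814
-/

set_option autoImplicit false

namespace Cfsg.Agent.FGS77.FourPrimes

open Subgroup
open scoped Pointwise commutatorElement

variable {G : Type*} [Group G] [Finite G]

/-- `O_t(H)` as a subgroup of the ambient group. -/
def core (t : ℕ) (H : Subgroup G) : Subgroup G := (Cfsg.pCore t H).map H.subtype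

omit [Finite G] in
theorem core_le (t : ℕ) (H : Subgroup G) : core t H ≤ H := map_subtype_le _

omit [Finite G] in
theorem core_isPGroup (t : ℕ) (H : Subgroup G) : IsPGroup t (core t H) :=
  (Fitting.pCore_isPGroup t).map _

omit [Finite G] in
theorem le_core {t : ℕ} {H X : Subgroup G} (hX : X ≤ H) (hp : IsPGroup t X)
    (hn : H ≤ normalizer (X : Set G)) : X ≤ core t H := by
  have h1 : (X.subgroupOf H).Normal := (Subgroup.normal_subgroupOf_iff_le_normalizer hX).mpr hn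
  have h2 : X.subgroupOf H ≤ Cfsg.pCore t H :=
    Fitting.le_pCore h1 (hp.of_equiv (Subgroup.subgroupOfEquivOfLe hX).symm)
  exact (map_subgroupOf_eq_of_le hX).ge.trans (map_mono h2)

/-- Anything normalizing `H` normalizes `O_t(H)`. -/
theorem core_normalizer (t : ℕ) (H : Subgroup G) :
    normalizer (H : Set G) ≤ normalizer (core t H : Set G) := by
  intro g hg
  refine mem_normalizer_of_conj_mem fun a ha => ?_
  have hX : (core t H).map (MulAut.conj g).toMonoidHom ≤ H := by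
    rintro _ ⟨x, hx, rfl⟩
    exact (mem_normalizer_iff.mp hg x).mp (core_le t H hx)
  refine le_core hX ((core_isPGroup t H).map _) (fun h hh => mem_normalizer_of_conj_mem ?_)
    ⟨a, ha, rfl⟩
  rintro _ ⟨x, hx, rfl⟩
  have hh' : g⁻¹ * h * g ∈ H := (mem_normalizer_iff.mp hg _).mpr (by simpa [mul_assoc] using hh)
  obtain ⟨w, hw, rfl⟩ := hx
  refine ⟨g⁻¹ * h * g * (w : G) * (g⁻¹ * h * g)⁻¹, ?_, ?_⟩
  · exact ⟨⟨_, hh'⟩ * w * ⟨_, hh'⟩⁻¹,
      (Fitting.pCore_normal t).conj_mem w hw _, rfl⟩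
  · show g * (g⁻¹ * h * g * (w : G) * (g⁻¹ * h * g)⁻¹) * g⁻¹ = h * (g * (w : G) * g⁻¹) * h⁻¹
    group

theorem le_normalizer_core (t : ℕ) (H : Subgroup G) : H ≤ normalizer (core t H : Set G) :=
  le_normalizer.trans (core_normalizer t H)

omit [Finite G] in
theorem core_commute {t u : ℕ} (ht : t.Prime) (hu : u.Prime) (htu : t ≠ u) (H : Subgroup G)
    {x y : G} (hx : x ∈ core t H) (hy : y ∈ core u H) : Commute x y := by
  haveI := Fact.mk ht
  haveI := Fact.mk hu
  obtain ⟨x, hx, rfl⟩ := hx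
  obtain ⟨y, hy, rfl⟩ := hy
  exact (Fitting.pCore_commute htu hx hy).map H.subtype

theorem eq_of_isPGroup {H : Subgroup G} {t u : ℕ} (ht : t.Prime) (hp : IsPGroup t H) {g : G}
    (hg : g ∈ H) (hu : u.Prime) (hgu : orderOf g = u) : u = t := by
  haveI := Fact.mk ht
  obtain ⟨n, hn⟩ := IsPGroup.iff_card.mp hp
  have := dvd_card_of_mem hg hgu
  rw [hn] at this
  exact (Nat.prime_dvd_prime_iff_eq hu ht).mp (hu.dvd_of_dvd_pow this)

theorem isPGroup_of_orders {H : Subgroup G} {t : ℕ} (ht : t.Prime)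
    (h : ∀ g ∈ H, ∀ u : ℕ, u.Prime → orderOf g = u → u = t) : IsPGroup t H :=
  haveI := Fact.mk ht
  IsPGroup.of_card (Nat.eq_prime_pow_of_unique_prime_dvd Nat.card_pos.ne' fun {u} hu hd => by
    obtain ⟨g, hg, hgu⟩ := exists_orderOf_of_dvd hu hd
    exact h g hg u hu hgu)

/-- Hall subgroups inside a bigger Hall subgroup. -/
theorem exists_hall_le (hG : Group.IsSolvable G) {π : Set ℕ} {ρ : Set ℕ} (hπρ : π ⊆ ρ)
    {K : Subgroup G} (hK : Cfsg.IsPiHall ρ K) : ∃ J ≤ K, Cfsg.IsPiHall π J := by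
  haveI := hG
  obtain ⟨J, hJ⟩ := Solvable.exists_isPiHall (G := G) π
  obtain ⟨g, hg⟩ := Solvable.le_conj_isPiHall hK J fun u hu hd => hπρ (hJ.1 u hu hd)
  refine ⟨MulAut.conj g⁻¹ • J, ?_, Solvable.isPiHall_conj_smul hJ _⟩
  rw [map_inv]
  exact pointwise_smul_subset_iff.mpr (by rwa [inv_inv])

/-- A `t`-subgroup has a conjugate in a Hall subgroup. -/
theorem hall_conj_mem (hG : Group.IsSolvable G) {π : Set ℕ} {J : Subgroup G}
    (hJ : Cfsg.IsPiHall π J) {t : ℕ} (ht : t.Prime) (htπ : t ∈ π) (T : Subgroup G)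
    (hT : IsPGroup t T) : ∃ g : G, ∀ x ∈ T, g * x * g⁻¹ ∈ J := by
  haveI := hG
  haveI := Fact.mk ht
  obtain ⟨g, hg⟩ := Solvable.le_conj_isPiHall hJ T fun u hu hd => by
    obtain ⟨n, hn⟩ := IsPGroup.iff_card.mp hT
    rw [hn] at hd
    exact (Nat.prime_dvd_prime_iff_eq hu ht).mp (hu.dvd_of_dvd_pow hd) ▸ htπ
  refine ⟨g⁻¹, fun x hx => ?_⟩
  obtain ⟨y, hy, rfl⟩ := hg hx
  simpa [mul_assoc] using hy

/-- Conjugation into a Hall subgroup inside an overgroup. -/
theorem hall_conj_mem_in {π : Set ℕ} {J K : Subgroup G} (hK : Group.IsSolvable K) (hJK : J ≤ K)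
    (hJ : Cfsg.IsPiHall π J) {X : Subgroup G} (hXK : X ≤ K)
    (hX : ∀ u : ℕ, u.Prime → u ∣ Nat.card X → u ∈ π) : ∃ k ∈ K, ∀ x ∈ X, k * x * k⁻¹ ∈ J := by
  haveI := hK
  have hJ' : Cfsg.IsPiHall π (J.subgroupOf K) := by
    refine ⟨fun u hu hd => hJ.1 u hu ?_, fun u hu hπ hd => hJ.2 u hu hπ ?_⟩
    · rwa [Nat.card_congr (Subgroup.subgroupOfEquivOfLe hJK).toEquiv] at hd
    · exact hd.trans (Dvd.intro _ (Subgroup.relIndex_mul_index hJK))
  obtain ⟨g, hg⟩ := Solvable.le_conj_isPiHall hJ' (X.subgroupOf K) fun u hu hd => hX u hu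
    (by rwa [Nat.card_congr (Subgroup.subgroupOfEquivOfLe hXK).toEquiv] at hd)
  refine ⟨(g : G)⁻¹, K.inv_mem g.2, fun x hx => ?_⟩
  obtain ⟨y, hy, hxy⟩ := hg (show (⟨x, hXK hx⟩ : K) ∈ X.subgroupOf K from hx)
  have hxy' : x = (g : G) * (y : G) * (g : G)⁻¹ := congrArg Subtype.val hxy.symm
  rw [hxy']
  have hy' : (y : G) ∈ J := hy
  simpa [mul_assoc] using hy'

/-- An element of `K` has a conjugate under `K` in a Hall subgroup. -/
theorem hall_conj_elt {π : Set ℕ} {J K : Subgroup G} (hK : Group.IsSolvable K) (hJK : J ≤ K)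
    (hJ : Cfsg.IsPiHall π J) {x : G} (hx : x ∈ K)
    (hπ : ∀ u : ℕ, u.Prime → u ∣ orderOf x → u ∈ π) : ∃ k ∈ K, k * x * k⁻¹ ∈ J := by
  obtain ⟨k, hk, h⟩ := hall_conj_mem_in hK hJK hJ (zpowers_le.mpr hx)
    (fun u hu hd => hπ u hu (by rwa [Nat.card_zpowers] at hd))
  exact ⟨k, hk, h x (mem_zpowers x)⟩

/-- A `π`-subgroup normalized by `K` lies in every Hall `π`-subgroup inside `K`. -/
theorem le_hall_of_normalized {π : Set ℕ} {J K : Subgroup G} (hK : Group.IsSolvable K) (hJK : J ≤ K)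
    (hJ : Cfsg.IsPiHall π J) {X : Subgroup G} (hXK : X ≤ K) (hn : K ≤ normalizer (X : Set G))
    (hX : ∀ u : ℕ, u.Prime → u ∣ Nat.card X → u ∈ π) : X ≤ J := by
  obtain ⟨k, hk, h⟩ := hall_conj_mem_in hK hJK hJ hXK hX
  intro x hx
  have := h (k⁻¹ * x * k) (by simpa using (mem_normalizer_iff.mp (inv_mem (hn hk)) x).mp hx)
  simpa [mul_assoc] using this

/-- Generation of a coprime group by the centralizers of the elements of a rank-two group. -/
theorem le_of_lines {a b : G} {s : ℕ} (hs : s.Prime) (hab : Commute a b) (ha : orderOf a = s)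
    (hb : orderOf b = s) (hne : b ∉ zpowers a) {R H : Subgroup G}
    (haR : a ∈ normalizer (R : Set G)) (hbR : b ∈ normalizer (R : Set G))
    (hcop : ¬ s ∣ Nat.card R)
    (hb' : ∀ w ∈ R, Commute b w → w ∈ H)
    (hab' : ∀ i : ℕ, ∀ w ∈ R, Commute (a * b ^ i) w → w ∈ H) : R ≤ H := by
  haveI := Fact.mk hs
  set A := zpowers a ⊔ zpowers b with hA
  have hmem : ∀ e ∈ A, ∃ i j : ℕ, e = a ^ i * b ^ j := by
    intro e he
    have hle : zpowers a ≤ centralizer ({b} : Set G) :=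
      zpowers_le.mpr (mem_centralizer_singleton_iff.mpr hab.eq)
    have hn : zpowers a ≤ normalizer (zpowers b : Set G) := by
      rw [zpowers_le]
      refine mem_normalizer_of_conj_mem fun x hx => ?_
      obtain ⟨n, rfl⟩ := hx
      rw [(hab.zpow_right n).eq, mul_inv_cancel_right]
      exact zpow_mem (mem_zpowers b) n
    obtain ⟨y, hy, x, hx, hxy⟩ := Coprime.exists_mul_of_mem_sup hn (by rw [sup_comm]; exact he)
    obtain ⟨i, rfl⟩ : ∃ i : ℕ, a ^ i = x :=
      (Submonoid.mem_powers_iff x a).mp (mem_powers_iff_mem_zpowers.mpr hx)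
    obtain ⟨j, rfl⟩ : ∃ j : ℕ, b ^ j = y :=
      (Submonoid.mem_powers_iff y b).mp (mem_powers_iff_mem_zpowers.mpr hy)
    exact ⟨i, j, hxy.trans (hab.pow_pow i j).eq.symm⟩
  haveI : IsMulCommutative A := ⟨⟨fun x y => Subtype.ext (by
    obtain ⟨i, j, hx⟩ := hmem x x.2
    obtain ⟨k, l, hy⟩ := hmem y y.2
    show (x : G) * y = y * x
    rw [hx, hy]
    exact ((((Commute.refl a).pow_pow i k).mul_right (hab.pow_pow i l)).mul_left
      ((hab.symm.pow_pow j k).mul_right ((Commute.refl b).pow_pow j l))).eq)⟩⟩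
  have hcard : (Nat.card A).Coprime (Nat.card R) := Nat.coprime_of_dvd fun u hu h1 h2 => by
    obtain ⟨g, hg, hgu⟩ := exists_orderOf_of_dvd hu h1
    obtain ⟨i, j, rfl⟩ := hmem g hg
    have : (a ^ i * b ^ j) ^ s = 1 := by
      rw [(hab.pow_pow i j).mul_pow, ← pow_mul, ← pow_mul, mul_comm i, mul_comm j, pow_mul, pow_mul,
        pow_orderOf' ha, pow_orderOf' hb, one_pow, one_pow, one_mul]
    exact hcop ((Nat.prime_dvd_prime_iff_eq hu hs).mp (hgu ▸ orderOf_dvd_of_pow_eq_one this) ▸ h2)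
  refine Coprime.le_of_centralizer_le A R H ?_ ?_ hcard ?_
  · intro hcyc
    obtain ⟨g, hg⟩ := hcyc
    have hao : orderOf (⟨a, le_sup_left (b := zpowers b) (mem_zpowers a)⟩ : A) = s := by
      rw [← Subgroup.orderOf_coe]; exact ha
    obtain ⟨i, j, hgij⟩ := hmem g g.2
    have hgs : (g : G) ^ s = 1 := by
      rw [hgij, (hab.pow_pow i j).mul_pow, ← pow_mul, ← pow_mul, mul_comm i, mul_comm j, pow_mul,
        pow_mul, pow_orderOf' ha, pow_orderOf' hb, one_pow, one_pow, one_mul]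
    obtain ⟨m, hm⟩ := mem_zpowers_iff.mp (hg ⟨a, le_sup_left (b := zpowers b) (mem_zpowers a)⟩)
    obtain ⟨n, hn⟩ := mem_zpowers_iff.mp (hg ⟨b, le_sup_right (a := zpowers a) (mem_zpowers b)⟩)
    have hm' : (g : G) ^ m = a := congrArg Subtype.val hm
    have hn' : (g : G) ^ n = b := congrArg Subtype.val hn
    have hle : zpowers a ≤ zpowers (g : G) := zpowers_le.mpr ⟨m, hm'⟩
    have hg1 : orderOf (g : G) ≤ s := Nat.le_of_dvd hs.pos (orderOf_dvd_of_pow_eq_one hgs)
    have heq : zpowers a = zpowers (g : G) :=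
      eq_of_le_of_card_ge hle (by rw [Nat.card_zpowers, Nat.card_zpowers, ha]; exact hg1)
    exact hne (heq ▸ ⟨n, hn'⟩)
  · exact sup_le (zpowers_le.mpr haR) (zpowers_le.mpr hbR)
  · intro e he he1 w hw
    obtain ⟨hwR, hwe⟩ := hw
    obtain ⟨i, j, rfl⟩ := hmem e he
    have hc : Commute (a ^ i * b ^ j) w := (mem_centralizer_singleton_iff.mp hwe).symm
    by_cases hi : s ∣ i
    · obtain ⟨i', rfl⟩ := hi
      rw [pow_mul, pow_orderOf' ha, one_pow, one_mul] at hc he1
      refine hb' w hwR ?_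
      have hj : j.Coprime s := (Nat.Coprime.symm (hs.coprime_iff_not_dvd.mpr fun hd => he1 (by
        obtain ⟨j', rfl⟩ := hd
        rw [pow_mul, pow_orderOf' hb, one_pow])))
      obtain ⟨k, hk⟩ := exists_pow_eq_self_of_coprime (n := j) (x := b) (hb.symm ▸ hj)
      rw [← hk]
      exact hc.pow_left k
    · have hco : i.Coprime s := (hs.coprime_iff_not_dvd.mpr hi).symm
      obtain ⟨k, hk⟩ := exists_pow_eq_self_of_coprime (n := i) (x := a) (ha.symm ▸ hco)
      refine hab' (j * k) w hwR ?_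
      have := hc.pow_left k
      rwa [(hab.pow_pow i j).mul_pow, hk, ← pow_mul] at this

omit [Finite G] in
/-- An element of order `r` acting nontrivially on a group of order `s` forces `r ∣ s - 1`. -/
theorem dvd_pred_of_conj {y a : G} {r s k : ℕ} (hr : r.Prime) (hs : s.Prime) (hy : y ^ r = 1)
    (ha : orderOf a = s) (hk : y * a * y⁻¹ = a ^ k) (hne : y * a * y⁻¹ ≠ a) : r ∣ s - 1 := by
  haveI := Fact.mk hs
  have hiter : ∀ n : ℕ, y ^ n * a * (y ^ n)⁻¹ = a ^ (k ^ n) := by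
    intro n
    induction n with
    | zero => simp
    | succ n ih =>
      calc y ^ (n + 1) * a * (y ^ (n + 1))⁻¹ = y * (y ^ n * a * (y ^ n)⁻¹) * y⁻¹ := by
            rw [pow_succ']; group
        _ = (y * a * y⁻¹) ^ (k ^ n) := by rw [ih, ← conj_pow]
        _ = a ^ (k ^ (n + 1)) := by rw [hk, ← pow_mul, pow_succ']
  have h1 := hiter r
  rw [hy, one_mul, inv_one, mul_one] at h1
  have h2 : ((k : ZMod s)) ^ r = 1 := by
    have h3 : k ^ r ≡ 1 [MOD s] := by
      have h4 : a ^ (k ^ r) = a ^ 1 := by rw [pow_one]; exact h1.symm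
      rw [pow_eq_pow_iff_modEq, ha] at h4
      exact h4
    have := (ZMod.natCast_eq_natCast_iff (k ^ r) 1 s).mpr h3
    simpa using this
  have hk1 : (k : ZMod s) ≠ 1 := fun h => hne (by
    rw [hk, ← pow_one a, ← pow_mul, one_mul]
    refine pow_eq_pow_iff_modEq.mpr ?_
    rw [ha]
    exact (ZMod.natCast_eq_natCast_iff k 1 s).mp (by simpa using h))
  haveI := Fact.mk hr
  have ho : orderOf (k : ZMod s) = r := orderOf_eq_prime h2 hk1
  rw [← ho]
  refine ZMod.orderOf_dvd_card_sub_one fun h0 => ?_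
  rw [h0, zero_pow hr.ne_zero] at h2
  exact zero_ne_one h2

/-- If all commuting elements of order `s` in the `{r,s}`-group `J` are dependent and some element of
order `r` lies outside `O_r(J)`, then some `a` of order `s` generates a normal subgroup modulo
`O_r(J)`. -/
theorem exists_normal_mod_core {J : Subgroup G} (hJ : Group.IsSolvable J) {r s : ℕ} (hr : r.Prime)
    (hs : s.Prime) (hrs : r ≠ s) (hcard : ∀ u : ℕ, u.Prime → u ∣ Nat.card J → u = r ∨ u = s)
    (hdep : ∀ a ∈ J, ∀ b ∈ J, orderOf a = s → orderOf b = s → Commute a b → b ∈ zpowers a)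
    {y : G} (hy : y ∈ J) (hyr : orderOf y = r) (hyc : y ∉ core r J) :
    ∃ a ∈ J, orderOf a = s ∧ ∀ h ∈ J, ∃ k : ℕ, a ^ k * (h * a * h⁻¹)⁻¹ ∈ core r J := by
  haveI := Fact.mk hr
  haveI := Fact.mk hs
  haveI := hJ
  set R := Cfsg.pCore r J with hR
  haveI : R.Normal := Fitting.pCore_normal r
  set f := QuotientGroup.mk' R with hf
  have hfs := QuotientGroup.mk'_surjective R
  have hyR : (⟨y, hy⟩ : J) ∉ R := fun h => hyc ⟨_, h, rfl⟩
  haveI : Nontrivial (J ⧸ R) :=
    ⟨f ⟨y, hy⟩, 1, fun h => hyR ((QuotientGroup.eq_one_iff _).mp h)⟩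
  obtain ⟨M, t, hMn, hM1, -, ht, hMp, hMc, hMexp, d, hd0, hMd⟩ :=
    Solvable.exists_minimal_normal_elementary (J ⧸ R)
  haveI := Fact.mk ht
  set Y := M.comap f with hY
  haveI : Y.Normal := hMn.comap f
  have hcardQ : Nat.card M ∣ Nat.card J :=
    (M.card_subgroup_dvd_card).trans (Subgroup.card_quotient_dvd_card R)
  have hts : t = s := by
    rcases hcard t ht ((hMd ▸ dvd_pow_self t hd0.ne').trans hcardQ) with rfl | h
    · exfalso
      have hYp : IsPGroup t Y := hMp.comap_of_ker_isPGroup f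
        (by rw [hf, QuotientGroup.ker_mk']; exact Fitting.pCore_isPGroup t)
      have hle : Y ≤ R := Fitting.le_pCore inferInstance hYp
      apply hM1
      rw [← map_comap_eq_self_of_surjective hfs M, Subgroup.map_eq_bot_iff, QuotientGroup.ker_mk']
      exact hle
    · exact h
  subst hts
  obtain ⟨S⟩ : Nonempty (Sylow t Y) := inferInstance
  let g : (S : Subgroup Y) →* J ⧸ R := f.comp (Y.subtype.comp (S : Subgroup Y).subtype)
  have hginj : Function.Injective g := by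
    rw [injective_iff_map_eq_one]
    intro x hx
    have hxR : ((x : Y) : J) ∈ R := (QuotientGroup.eq_one_iff _).mp hx
    obtain ⟨m, hm⟩ := S.isPGroup' x
    obtain ⟨n, hn⟩ := Fitting.pCore_isPGroup r (G := J) ⟨_, hxR⟩
    have h1 : orderOf ((x : Y) : J) ∣ t ^ m :=
      orderOf_dvd_of_pow_eq_one (by simpa using congrArg (fun z : (S : Subgroup Y) => ((z : Y) : J)) hm)
    have h2 : orderOf ((x : Y) : J) ∣ r ^ n :=
      orderOf_dvd_of_pow_eq_one (congrArg Subtype.val hn)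
    have h3 : orderOf ((x : Y) : J) = 1 := Nat.eq_one_of_dvd_coprimes
      (Nat.Coprime.pow _ _ ((Nat.coprime_primes hs hr).mpr hrs.symm)) h1 h2
    exact Subtype.ext (Subtype.ext (orderOf_eq_one_iff.mp h3))
  have hmem : ∀ x : (S : Subgroup Y), g x ∈ M := fun x => (x : Y).2
  have hcomm : ∀ x x' : (S : Subgroup Y), Commute x x' := fun x x' => hginj (by
    rw [map_mul, map_mul]
    exact congrArg Subtype.val (hMc.is_comm.comm ⟨g x, hmem x⟩ ⟨g x', hmem x'⟩))
  have hpow : ∀ x : (S : Subgroup Y), x ^ t = 1 := fun x => hginj (by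
    rw [map_pow, map_one]; exact hMexp _ (hmem x))
  have hdvd : t ∣ Nat.card Y := by
    have h1 : Nat.card M ∣ Nat.card Y := by
      rw [← map_comap_eq_self_of_surjective hfs M]
      exact Y.card_map_dvd f
    exact (hMd ▸ dvd_pow_self t hd0.ne').trans h1
  haveI : Nontrivial (S : Subgroup Y) := by
    rw [← Finite.one_lt_card_iff_nontrivial]
    exact lt_of_lt_of_le hs.one_lt (Nat.le_of_dvd Nat.card_pos (S.dvd_card_of_dvd_card hdvd))
  obtain ⟨x₀, hx₀⟩ := exists_ne (1 : (S : Subgroup Y))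
  have hao : orderOf ((((x₀ : Y) : J)) : G) = t := by
    rw [Subgroup.orderOf_coe, Subgroup.orderOf_coe, Subgroup.orderOf_coe]
    exact orderOf_eq_prime (hpow x₀) hx₀
  refine ⟨((x₀ : Y) : J), ((x₀ : Y) : J).2, hao, fun h hh => ?_⟩
  have hall : ∀ x : (S : Subgroup Y), x ∈ zpowers x₀ := by
    intro x
    by_cases hx : x = 1
    · rw [hx]; exact one_mem _
    have hxo : orderOf ((((x : Y) : J)) : G) = t := by
      rw [Subgroup.orderOf_coe, Subgroup.orderOf_coe, Subgroup.orderOf_coe]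
      exact orderOf_eq_prime (hpow x) hx
    obtain ⟨n, hn⟩ := hdep _ ((x₀ : Y) : J).2 _ ((x : Y) : J).2 hao hxo
      (((hcomm x₀ x).map (S : Subgroup Y).subtype).map Y.subtype |>.map J.subtype)
    exact ⟨n, Subtype.ext (Subtype.ext (Subtype.ext (by push_cast; exact hn)))⟩
  have hcardM : Nat.card M = t := by
    have h1 : Nat.card (S : Subgroup Y) = t := by
      exact ((Nat.card_congr (Equiv.subtypeUnivEquiv hall)).symm.trans (Nat.card_zpowers x₀)).trans
        (orderOf_eq_prime (hpow x₀) hx₀)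
    have h2 : Nat.card M ∣ Nat.card Y := by
      rw [← map_comap_eq_self_of_surjective hfs M]
      exact Y.card_map_dvd f
    rw [hMd] at h2 ⊢
    have h3 := S.pow_dvd_card_of_pow_dvd_card h2
    rw [h1] at h3
    rcases (Nat.dvd_prime hs).mp h3 with h4 | h4
    · exact absurd (Nat.pow_eq_one.mp h4) (by simp [hs.ne_one, hd0.ne'])
    · exact h4
  have hgen : zpowers (g x₀) = M :=
    eq_of_le_of_card_ge (zpowers_le.mpr (hmem x₀)) (by
      rw [hcardM, Nat.card_zpowers, orderOf_injective g hginj, orderOf_eq_prime (hpow x₀) hx₀])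
  have hconj : f ⟨h, hh⟩ * g x₀ * (f ⟨h, hh⟩)⁻¹ ∈ zpowers (g x₀) := by
    rw [hgen]; exact hMn.conj_mem _ (hmem x₀) _
  rw [← mem_powers_iff_mem_zpowers, Submonoid.mem_powers_iff] at hconj
  obtain ⟨k, hk⟩ := hconj
  refine ⟨k, ⟨((x₀ : Y) : J) ^ k * (⟨h, hh⟩ * ((x₀ : Y) : J) * ⟨h, hh⟩⁻¹)⁻¹, ?_, rfl⟩⟩
  refine (QuotientGroup.eq_one_iff _).mp ?_
  show f _ = 1
  rw [map_mul, map_inv, map_mul, map_mul, map_pow, map_inv, mul_inv_eq_one]
  exact hk

/-- If `y` centralizes `O_q(K)`, the other core `O_r(K)` is cyclic and all further cores are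
trivial, then `y` of order `r` lies in `O_r(K)`. -/
theorem mem_core_of_centralizes {K : Subgroup G} (hK : Group.IsSolvable K) {q r : ℕ} (hq : q.Prime)
    (hr : r.Prime) (hqr : q ≠ r)
    (hcores : ∀ u : ℕ, u.Prime → u ≠ q → u ≠ r → core u K = ⊥) (hcyc : IsCyclic (core r K))
    {y : G} (hy : y ∈ K) (hyr : y ^ r = 1) (hc : ∀ x ∈ core q K, Commute y x) : y ∈ core r K := by
  haveI := Fact.mk hq
  haveI := Fact.mk hr
  set T := core q K
  set S := core r K
  have hcomm : ∀ a ∈ S, ∀ b ∈ S, Commute a b := fun a ha b hb => by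
    letI := hcyc.commGroup
    exact congrArg Subtype.val (mul_comm (⟨a, ha⟩ : S) ⟨b, hb⟩)
  obtain ⟨γ, hγ⟩ := hcyc
  have hact : ∀ g ∈ K, ∃ n : ℤ, ∀ a ∈ S, g * a * g⁻¹ = a ^ n := by
    intro g hg
    have h1 : g * (γ : G) * g⁻¹ ∈ S := (mem_normalizer_iff.mp (le_normalizer_core r K hg) _).mp γ.2
    obtain ⟨n, hn⟩ := mem_zpowers_iff.mp (hγ ⟨_, h1⟩)
    refine ⟨n, fun a ha => ?_⟩
    obtain ⟨m, hm⟩ := mem_zpowers_iff.mp (hγ ⟨a, ha⟩)
    have hm' : (γ : G) ^ m = a := congrArg Subtype.val hm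
    have hn' : (γ : G) ^ n = g * γ * g⁻¹ := congrArg Subtype.val hn
    rw [← hm', ← conj_zpow, ← hn', ← zpow_mul, ← zpow_mul, mul_comm]
  have hcF : ∀ g ∈ K, g * y * g⁻¹ * y⁻¹ ∈ T ⊔ S ∧ ∀ x ∈ T, Commute (g * y * g⁻¹ * y⁻¹) x := by
    intro g hg
    have hcT : ∀ x ∈ T, Commute (g * y * g⁻¹ * y⁻¹) x := by
      intro x hx
      refine Commute.mul_left ?_ (hc x hx).inv_left
      have h1 : g⁻¹ * x * g ∈ T := by
        simpa using (mem_normalizer_iff.mp (inv_mem (le_normalizer_core q K hg)) x).mp hx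
      have h2 := (hc _ h1).map (MulAut.conj g).toMonoidHom
      simpa [mul_assoc] using h2
    have hcS : ∀ x ∈ S, Commute (g * y * g⁻¹ * y⁻¹) x := by
      intro x hx
      obtain ⟨n, hn⟩ := hact g hg
      obtain ⟨m, hm⟩ := hact y hy
      obtain ⟨n', hn''⟩ := hact g⁻¹ (K.inv_mem hg)
      obtain ⟨m', hm''⟩ := hact y⁻¹ (K.inv_mem hy)
      refine mul_inv_eq_iff_eq_mul.mp ?_
      have e1 : y⁻¹ * x * y = x ^ m' := by simpa using hm'' x hx
      have e2 : g⁻¹ * x ^ m' * g = x ^ (m' * n') := by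
        rw [show g⁻¹ * x ^ m' * g = g⁻¹ * x ^ m' * g⁻¹⁻¹ by simp, hn'' _ (zpow_mem hx _), ← zpow_mul]
      have e3 : x ^ (m' * n' * (m * n)) = x := by
        have a1 : g⁻¹ * x * g⁻¹⁻¹ = x ^ n' := hn'' x hx
        have a2 : g * x ^ n' * g⁻¹ = x ^ (n' * n) := by rw [hn _ (zpow_mem hx _), ← zpow_mul]
        have a3 : x ^ (n' * n) = x := by rw [← a2, ← a1]; group
        have b1 : y⁻¹ * x * y⁻¹⁻¹ = x ^ m' := hm'' x hx
        have b2 : y * x ^ m' * y⁻¹ = x ^ (m' * m) := by rw [hm _ (zpow_mem hx _), ← zpow_mul]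
        have b3 : x ^ (m' * m) = x := by rw [← b2, ← b1]; group
        rw [show m' * n' * (m * n) = m' * m * (n' * n) by ring, zpow_mul, b3, a3]
      calc g * y * g⁻¹ * y⁻¹ * x * (g * y * g⁻¹ * y⁻¹)⁻¹
          = g * (y * (g⁻¹ * (y⁻¹ * x * y) * g) * y⁻¹) * g⁻¹ := by group
        _ = g * (y * x ^ (m' * n') * y⁻¹) * g⁻¹ := by rw [e1, e2]
        _ = x ^ (m' * n' * (m * n)) := by
          rw [hm _ (zpow_mem hx _), ← zpow_mul, hn _ (zpow_mem hx _), ← zpow_mul, mul_assoc (m' * n')]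
        _ = x := e3
    refine ⟨?_, hcT⟩
    haveI := hK
    have hcK : g * y * g⁻¹ * y⁻¹ ∈ K := mul_mem (mul_mem (mul_mem hg hy) (inv_mem hg)) (inv_mem hy)
    have hFle : (Cfsg.fittingSubgroup K).map K.subtype ≤ T ⊔ S := by
      rw [Fitting.fitting_eq_iSup_pCore, Subgroup.map_iSup]
      refine iSup_le fun u => ?_
      show core (u : ℕ) K ≤ T ⊔ S
      by_cases h1 : (u : ℕ) = q
      · rw [h1]; exact le_sup_left
      by_cases h2 : (u : ℕ) = r
      · rw [h2]; exact le_sup_right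
      rw [hcores u u.2 h1 h2]; exact bot_le
    refine hFle ⟨⟨_, hcK⟩, Fitting.centralizer_fitting_le (mem_centralizer_iff.mpr ?_), rfl⟩
    intro w hw
    have hw' : (w : G) ∈ T ⊔ S := hFle ⟨w, hw, rfl⟩
    refine Subtype.ext ?_
    have : Commute (g * y * g⁻¹ * y⁻¹) (w : G) := by
      have hle : T ⊔ S ≤ centralizer ({g * y * g⁻¹ * y⁻¹} : Set G) := sup_le
        (fun x hx => mem_centralizer_singleton_iff.mpr (hcT x hx).eq.symm)
        (fun x hx => mem_centralizer_singleton_iff.mpr (hcS x hx).eq.symm)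
      exact (mem_centralizer_singleton_iff.mp (hle hw')).symm
    exact this.eq.symm
  have hyS : y ∈ normalizer (S : Set G) := le_normalizer_core r K hy
  have hzn : zpowers y ≤ normalizer (S : Set G) := zpowers_le.mpr hyS
  set Y := S ⊔ zpowers y
  have hYp : IsPGroup r Y :=
    (core_isPGroup r K).to_sup_of_normal_left' (IsPGroup.of_card (n := (orderOf y).factorization r) (by
      rw [Nat.card_zpowers]
      rcases (Nat.dvd_prime hr).mp (orderOf_dvd_of_pow_eq_one hyr) with h | h <;> rw [h] <;>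
        simp [hr.factorization_self])) hzn
  have hYn : K ≤ normalizer (Y : Set G) := by
    intro g hg
    refine mem_normalizer_of_conj_mem fun a ha => ?_
    have hgy : g * y * g⁻¹ ∈ Y := by
      obtain ⟨hcTS, hcT⟩ := hcF g hg
      have hTn : T ≤ normalizer (S : Set G) := (core_le q K).trans (le_normalizer_core r K)
      obtain ⟨σ, hσ, t, ht, hts0⟩ := Coprime.exists_mul_of_mem_sup hTn (sup_comm S T ▸ hcTS)
      have hts : g * y * g⁻¹ * y⁻¹ = t * σ := hts0.trans (core_commute hq hr hqr K ht hσ).eq.symm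
      have hts' : g * y * g⁻¹ = t * (σ * y) := by
        rw [← mul_assoc, ← hts]; group
      have hct : Commute t (σ * y) :=
        (core_commute hq hr hqr K ht hσ).mul_right (hc t ht).symm
      have hsy : σ * y ∈ Y :=
        mul_mem (le_sup_left (b := zpowers y) hσ) (le_sup_right (a := S) (mem_zpowers y))
      obtain ⟨n, hn⟩ := hYp ⟨σ * y, hsy⟩
      have hn' : (σ * y) ^ (r ^ n) = 1 := congrArg Subtype.val hn
      have hpow : (g * y * g⁻¹) ^ (r ^ (n + 1)) = 1 := by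
        rw [conj_pow, pow_succ', pow_mul, hyr, one_pow, mul_one, mul_inv_cancel]
      rw [hts', hct.mul_pow, pow_succ r n, pow_mul (σ * y), hn', one_pow, mul_one] at hpow
      have : t = 1 := eq_one_of_pow_eq_one_of_coprime ht hpow (by
        obtain ⟨k, hk⟩ := IsPGroup.iff_card.mp (core_isPGroup q K)
        rw [hk, ← pow_succ]
        exact Nat.Coprime.pow _ _ ((Nat.coprime_primes hr hq).mpr hqr.symm))
      rw [hts', this, one_mul]
      exact hsy
    have hle : Y ≤ Y.comap (MulAut.conj g).toMonoidHom := sup_le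
      (fun x hx => le_sup_left (b := zpowers y)
        ((mem_normalizer_iff.mp (le_normalizer_core r K hg) x).mp hx))
      (zpowers_le.mpr hgy)
    exact hle ha
  exact le_core (sup_le (core_le r K) (zpowers_le.mpr hy)) hYp hYn
    (le_sup_right (a := S) (mem_zpowers y))

/-- A `w` moved inside `⟨w⟩` by `e` centralizes every `q`-group on which `e` acts fixed-point-freely. -/
theorem commute_of_fpf_pgroup {T : Subgroup G} {q : ℕ} (hq : q.Prime) (hT : IsPGroup q T)
    {e w : G} {s r : ℕ} (hs : s.Prime) (hr : r.Prime) (hsq : s ≠ q) (hrq : r ≠ q) (hsr : s ≠ r)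
    (he : e ^ s = 1) (hw : orderOf w = r) (heT : e ∈ normalizer (T : Set G))
    (hwT : w ∈ normalizer (T : Set G)) {k : ℕ} (hk : e * w * e⁻¹ = w ^ k)
    (hne : e * w * e⁻¹ ≠ w) (hf : ¬ Fixes e T) : ∀ x ∈ T, Commute w x := by
  haveI := Fact.mk hq
  set N := normalizer (T : Set G) with hN
  have hTN : T ≤ N := le_normalizer
  set T' : Subgroup N := T.subgroupOf N with hT'
  haveI hT'n : T'.Normal := Subgroup.normal_in_normalizer
  haveI : (frattini T').Characteristic := frattini_characteristic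
  set Φ : Subgroup N := (frattini T').map T'.subtype with hΦ
  haveI : Φ.Normal := ConjAct.normal_of_characteristic_of_normal
  have hT'p : IsPGroup q T' := hT.of_equiv (Subgroup.subgroupOfEquivOfLe hTN).symm
  have hΦp : IsPGroup q Φ := (hT'p.to_subgroup _).map _
  set f := QuotientGroup.mk' Φ
  set ē := f ⟨e, heT⟩
  set w' : N := ⟨w, hwT⟩
  obtain ⟨a, ha⟩ := IsPGroup.iff_card.mp hT'p
  obtain ⟨b, hb⟩ := IsPGroup.iff_card.mp (hT'p.map f)
  have hab : ∀ x ∈ T'.map f, ∀ y ∈ T'.map f, Commute x y := by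
    rintro _ ⟨x, hx, rfl⟩ _ ⟨y, hy, rfl⟩
    show f x * f y = f y * f x
    rw [← map_mul, ← map_mul]
    refine (QuotientGroup.eq).mpr ?_
    refine ⟨(⟨x, hx⟩ * ⟨y, hy⟩)⁻¹ * (⟨y, hy⟩ * ⟨x, hx⟩), ?_, rfl⟩
    have : (⟨x, hx⟩ * ⟨y, hy⟩ : T')⁻¹ * (⟨y, hy⟩ * ⟨x, hx⟩) =
        ⁅(⟨y, hy⟩ : T')⁻¹, (⟨x, hx⟩ : T')⁻¹⁆ := by
      rw [commutatorElement_def]; group
    rw [this]
    exact PGroup.commutator_le_frattini hT'p
      (Subgroup.commutator_mem_commutator (mem_top _) (mem_top _))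
  have hne1 : ¬ Fixes ē (T'.map f) := by
    rintro ⟨v, ⟨x, hx, rfl⟩, hv1, hcv⟩
    have hcard : (Nat.card (zpowers (⟨e, heT⟩ : N))).Coprime (Nat.card Φ) := by
      obtain ⟨c, hc⟩ := IsPGroup.iff_card.mp hΦp
      rw [hc, Nat.card_zpowers]
      exact Nat.Coprime.coprime_dvd_left (orderOf_dvd_of_pow_eq_one (Subtype.ext he))
        (Nat.Coprime.pow_right _ ((Nat.coprime_primes hs hq).mpr hsq))
    obtain ⟨n, hn, hfix⟩ := Coprime.exists_fixed_in_coset_of_normal (zpowers (⟨e, heT⟩ : N)) Φ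
      (le_top.trans (normalizer_eq_top Φ).ge) hcard (Or.inl (Group.isSolvable_of_comm fun a b => mul_comm' a b))
      x (by rw [normalizer_eq_top]; exact mem_top _) (fun a hmem => by
        obtain ⟨i, rfl⟩ := hmem
        refine (QuotientGroup.eq_one_iff _).mp ?_
        show f _ = 1
        have hci : Commute (ē ^ i) (f x) := hcv.zpow_left i
        rw [map_mul, map_mul, map_mul, map_inv, map_inv, map_zpow, hci.eq, mul_inv_cancel_right,
          mul_inv_cancel])
    have hxn : (x * n : N) ∈ T' := mul_mem hx (map_subtype_le _ hn)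
    have hc' : Commute (⟨e, heT⟩ : N) (x * n) :=
      mem_centralizer_iff.mp hfix _ (mem_zpowers _)
    refine hf ⟨((x * n : N) : G), hxn, fun h1 => hv1 ?_, congrArg Subtype.val hc'.eq⟩
    have h2 : x * n = 1 := Subtype.ext h1
    have : f (x * n) = 1 := by rw [h2, map_one]
    rwa [map_mul, show f n = 1 from (QuotientGroup.eq_one_iff _).mpr hn, mul_one] at this
  have hTmap : (T'.map f).Normal := hT'n.map f (QuotientGroup.mk'_surjective Φ)
  have hco : (Nat.card (zpowers (f w'))).Coprime (Nat.card (T'.map f)) := by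
    rw [hb, Nat.card_zpowers]
    exact Nat.Coprime.coprime_dvd_left ((orderOf_map_dvd f w').trans (dvd_of_eq
      (by rw [← Subgroup.orderOf_coe]; exact hw))) (Nat.Coprime.pow_right _ ((Nat.coprime_primes hr hq).mpr hrq))
  have hnw : ē ∈ normalizer (zpowers (f w') : Set (N ⧸ Φ)) := by
    refine mem_normalizer_of_conj_mem fun a ha => ?_
    obtain ⟨i, rfl⟩ := ha
    refine ⟨(k : ℤ) * i, ?_⟩
    show (f w') ^ ((k : ℤ) * i) = ē * (f w') ^ i * ē⁻¹
    rw [← conj_zpow, ← map_inv, ← map_mul, ← map_mul,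
      show (⟨e, heT⟩ * w' * ⟨e, heT⟩⁻¹ : N) = w' ^ k from Subtype.ext hk, map_pow, ← zpow_natCast,
      ← zpow_mul]
  have key := commutator_commute (T'.map f) (zpowers (f w')) hab
    (fun a ha b hb => by obtain ⟨i, rfl⟩ := ha; obtain ⟨j, rfl⟩ := hb; exact (Commute.refl _).zpow_zpow i j)
    (le_top.trans (normalizer_eq_top _).ge) (by rw [normalizer_eq_top]; exact mem_top _) hnw hs
    (by rw [← map_pow]; exact (congrArg f (Subtype.ext he : (⟨e, heT⟩ : N) ^ s = 1)).trans (map_one f))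
    (fun hd => hsr ((Nat.prime_dvd_prime_iff_eq hs hr).mp (hd.trans (by
      rw [Nat.card_zpowers]
      exact (orderOf_map_dvd f w').trans (dvd_of_eq (by rw [← Subgroup.orderOf_coe]; exact hw))))))
    hco hne1 (mem_zpowers _)
  have hk' : ∃ k', k' ≠ 0 ∧ ē * f w' * ē⁻¹ * (f w')⁻¹ = f (w' ^ k') ∧ k'.Coprime r := by
    refine ⟨k + (r - 1), fun h => by have := hr.two_le; omega, ?_, ?_⟩
    · rw [← map_inv, ← map_mul, ← map_mul, ← map_inv, ← map_mul]
      refine congrArg f (Subtype.ext ?_)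
      show e * w * e⁻¹ * w⁻¹ = w ^ (k + (r - 1))
      rw [hk, pow_add]
      congr 1
      refine inv_eq_of_mul_eq_one_right ?_
      rw [← pow_succ', Nat.sub_add_cancel hr.one_le, pow_orderOf' hw]
    · refine Nat.Coprime.symm (hr.coprime_iff_not_dvd.mpr fun hd => hne ?_)
      obtain ⟨c, hc⟩ := hd
      rw [hk]
      have h1 : w ^ (k + (r - 1)) = 1 := by rw [hc, pow_mul, pow_orderOf' hw, one_pow]
      rw [pow_add] at h1
      have h2 : w ^ (r - 1) = w⁻¹ := eq_inv_of_mul_eq_one_left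
        (by rw [← pow_succ, Nat.sub_add_cancel hr.one_le, pow_orderOf' hw])
      rw [h2] at h1
      exact mul_inv_eq_one.mp h1
  obtain ⟨k', -, hk'eq, hk'co⟩ := hk'
  obtain ⟨i, hi⟩ := exists_pow_eq_self_of_coprime (n := k') (x := w') (by
    rw [← Subgroup.orderOf_coe]; exact hw.symm ▸ hk'co)
  have hcen : ∀ v ∈ T'.map f, Commute (f w') v := by
    intro v hv
    have := (key v hv).pow_left i
    rwa [hk'eq, ← map_pow, hi] at this
  have hW : zpowers w' ≤ centralizer (T' : Set N) := by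
    refine Coprime.le_centralizer_of_frattini (zpowers w') T' (le_top.trans (normalizer_eq_top T').ge) ?_ ?_
    · obtain ⟨c, hc⟩ := IsPGroup.iff_card.mp (hT'p.to_subgroup (frattini T'))
      rw [hc, Nat.card_zpowers, ← Subgroup.orderOf_coe]
      exact hw.symm ▸ Nat.Coprime.pow_right _ ((Nat.coprime_primes hr hq).mpr hrq)
    · intro a ha x hx
      obtain ⟨j, rfl⟩ := ha
      refine (QuotientGroup.eq_one_iff _).mp ?_
      show f _ = 1
      rw [map_mul, map_mul, map_mul, map_inv, map_inv, map_zpow,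
        ((hcen _ (mem_map_of_mem f hx)).zpow_left j).eq, mul_inv_cancel_right, mul_inv_cancel]
  intro x hx
  exact congrArg Subtype.val
    (mem_centralizer_iff.mp (hW (mem_zpowers w')) ⟨x, hTN hx⟩ hx).symm

end Cfsg.Agent.FGS77.FourPrimes
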